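import Cfsg.Agent.Chev.St.Present
import Cfsg.Agent.Chev.Perfect

/-! Groups with generators satisfying (R1), (R2) are perfect. -/

set_option autoImplicit false

open Cfsg.Lie
open scoped commutatorElement

namespace Cfsg.Lib.Chev

namespace St.Pres

variable {D : ChevalleyDatum} {C : Cert} {F : Type*} [Field F] {G : Type*} [Group G] (P : St.Pres D C F G)
include P

theorem comm_gen_mem  {r s : ℕ} (hr : r < D.nroots) (hs : s < D.nroots) (h1 : s ≠ r)
    (h2 : s ≠ D.neg r) (t : F) :
    P.wd (D.commWord F r s t 1) ∈ commutator G := by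
  have e := P.hc r hr s hs h1 h2 t (1 : F)
  rw [wd, ← e, commutator_def]
  have := Subgroup.commutator_mem_commutator (Subgroup.mem_top (P.x s (1 : F))⁻¹) (Subgroup.mem_top (P.x r t)⁻¹)
  rwa [commutatorElement_def, inv_inv, inv_inv] at this

theorem x_mem_comm_of_witness  {md : Bool} {W : List (ℕ × ℕ)}
    (hW : okPerfect D md W = true) (hc : ∀ c : ℤ, smallUnit md c = true → (c : F) ≠ 0) :
    ∀ r < D.nroots, ∀ t : F, P.x r t ∈ commutator G := by
  have key : ∀ r < D.nroots, ∀ q rest,
      D.commTerms (W.getD r (0, 0)).1 (W.getD r (0, 0)).2 = q :: rest → q.1 = r → q.2.2.1 = 1 →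
      smallUnit md q.2.1 = true →
      (∀ p ∈ rest, ∀ t : F, P.x p.1 t ∈ commutator G) →
      ∀ t : F, P.x r t ∈ commutator G := by
    intro r hr q rest he h1 h2 h3 hrest t
    have h0 := kall_krange hW r hr
    simp only [Bool.and_eq_true, Bool.not_eq_true', Nat.blt, Nat.ble_eq] at h0
    obtain ⟨⟨⟨⟨a, b⟩, c⟩, d⟩, -⟩ := h0
    have hm := P.comm_gen_mem (F := F) a b (Nat.ne_of_beq_eq_false c) (Nat.ne_of_beq_eq_false d)
      (-(t / (q.2.1 : F)))
    have hw : P.wd (D.commWord F (W.getD r (0, 0)).1 (W.getD r (0, 0)).2 (-(t / (q.2.1 : F))) 1) =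
        P.x r t * P.wd (rest.map fun c =>
          (c.1, (c.2.1 : F) * (-(-(t / (q.2.1 : F)))) ^ c.2.2.1 * (1 : F) ^ c.2.2.2)) := by
      simp only [ChevalleyDatum.commWord, he, wd, List.map_cons, List.prod_cons]
      rw [h1, h2, pow_one, one_pow, mul_one, _root_.neg_neg, mul_div_cancel₀ _ (hc _ h3)]
    rw [hw] at hm
    have hr' : P.wd (rest.map fun c =>
          (c.1, (c.2.1 : F) * (-(-(t / (q.2.1 : F)))) ^ c.2.2.1 * (1 : F) ^ c.2.2.2)) ∈
        commutator G := by
      refine list_prod_mem fun g hg => ?_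
      simp only [List.map_map, List.mem_map] at hg
      obtain ⟨p, hp, rfl⟩ := hg
      exact hrest p hp _
    have := mul_mem hm (inv_mem hr')
    rwa [mul_inv_cancel_right] at this
  have hbase : ∀ r < D.nroots, perfBase D md W r = true →
      ∀ t : F, P.x r t ∈ commutator G := by
    intro r hr hb
    unfold perfBase at hb
    split at hb
    · rename_i q he
      simp only [Bool.and_eq_true] at hb
      exact key r hr q [] he (Nat.eq_of_beq_eq_true hb.1.1) (Nat.eq_of_beq_eq_true hb.1.2) hb.2 (by simp)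
    · exact absurd hb Bool.false_ne_true
  intro r hr
  have h0 := kall_krange hW r hr
  simp only [Bool.and_eq_true, Nat.blt, Nat.ble_eq] at h0
  obtain ⟨⟨⟨⟨a, b⟩, -⟩, -⟩, hst⟩ := h0
  unfold perfStep at hst
  split at hst
  · rename_i q rest he
    simp only [Bool.and_eq_true, kall_iff] at hst
    refine key r hr q rest he (Nat.eq_of_beq_eq_true hst.1.1.1) (Nat.eq_of_beq_eq_true hst.1.1.2)
      hst.1.2 fun p hp => hbase p.1 ?_ (hst.2 p hp)
    exact Ok.commTerms_lt P.S.chain a b (q := p) (he ▸ List.mem_cons_of_mem _ hp)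
  · exact absurd hst Bool.false_ne_true

theorem x_mem_comm_of_sq {a : F} (ha : a ≠ 0) (ha2 : a ^ 2 ≠ 1) :
    ∀ r < D.nroots, ∀ t : F, P.x r t ∈ commutator G := by
  have hnormal : (commutator G).Normal := inferInstance
  have conj : ∀ i r, i < D.rank → r < D.nroots →
      (∀ t : F, P.x r t ∈ commutator G) → ∀ t : F, P.x (C.w i r) t ∈ commutator G := by
    intro i r hi hr H t
    have := hnormal.conj_mem _ (H ((C.eta i r : F) * t)) (P.nn (C.sr i) 1)
    rwa [P.nconj hi hr, ← mul_assoc, Ok.eta_sq, one_mul] at this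
  refine P.S.ok.root_induction (fun i hi => ?_) fun i r hi hr ih => ?_
  · have hp := P.sr_lt hi
    have hbase : ∀ t : F, P.x (C.sr i) t ∈ commutator G := by
      intro t
      have hc2 : D.cartan i (C.sr i) = 2 := by
        rw [← P.S.ok.cart_eq hi hp, (P.S.ok.refl_simple hi).2.2.2]
      have e := P.hconj hi hp ha (t / (a ^ 2 - 1))
      rw [hc2, zpow_ofNat] at e
      have hm := Subgroup.commutator_mem_commutator (Subgroup.mem_top (P.hh (C.sr i) a))
        (Subgroup.mem_top (P.x (C.sr i) (t / (a ^ 2 - 1))))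
      rw [← commutator_def, commutatorElement_def, e, P.x_inv hp, P.hx _ hp] at hm
      convert hm using 2
      have : a ^ 2 - 1 ≠ 0 := sub_ne_zero.2 ha2
      field_simp
      ring
    exact ⟨hbase, (P.S.ok.refl_simple hi).1 ▸ conj i _ hi hp hbase⟩
  · exact P.S.ok.w_w hi hr ▸ conj i _ hi (P.S.ok.w_lt hi hr) ih

theorem perfect (hgen : P.gen {r | r < D.nroots} = ⊤) {md : Bool} {W : List (ℕ × ℕ)}
    (hW : okPerfect D md W = true) (hmd : md = true → ∃ a : F, a ≠ 0 ∧ a ≠ 1) : commutator G = ⊤ := by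
  have hgen' : ∀ r < D.nroots, ∀ t : F, P.x r t ∈ commutator G := by
    by_cases h : ∃ a : F, a ≠ 0 ∧ a ^ 2 ≠ 1
    · obtain ⟨a, ha, ha2⟩ := h
      exact P.x_mem_comm_of_sq ha ha2
    · push Not at h
      refine P.x_mem_comm_of_witness hW fun c hc => ?_
      simp only [smallUnit, Bool.or_eq_true, Bool.and_eq_true] at hc
      rcases hc with hc | ⟨hmd', hc⟩
      · rcases Int.natAbs_eq c with e | e <;> rw [e, Nat.eq_of_beq_eq_true hc] <;> simp
      · obtain ⟨a, ha0, ha1⟩ := hmd hmd'
        have h2 : (2 : F) ≠ 0 := by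
          intro h20
          have h4 := h a ha0
          have : (a - 1) ^ 2 = 0 := by linear_combination h4 - (a - 1) * h20
          exact ha1 (sub_eq_zero.1 (sq_eq_zero_iff.1 this))
        rcases Int.natAbs_eq c with e | e <;> rw [e, Nat.eq_of_beq_eq_true hc] <;> simpa using h2
  rw [eq_top_iff, ← hgen]
  refine (Subgroup.closure_le _).2 ?_
  rintro g ⟨r, hr, t, rfl⟩
  exact hgen' r hr t

end St.Pres

end Cfsg.Lib.Chev
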