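import Cfsg.Agent.Chev.St.Data

/-! The checks for Steinberg's presentation in type E8, in pieces. -/

set_option autoImplicit false
set_option Elab.async false

open Cfsg.Lie

namespace Cfsg.Lib.Chev.St

/-- Witness pairs for E8. -/
noncomputable def e8W : List ((ℕ × ℕ) × (ℕ × ℕ)) :=
  [((14, 233), (6, 225)), ((7, 234), (5, 232)), ((6, 234), (5, 233)), ((5, 235), (4, 234)), ((4, 236), (3, 235)), ((3, 237), (2, 236)), ((2, 238), (1, 237)), ((1, 239), (0, 238))]

theorem e8aut_head : autHead (negG 8 240) E8.cert = true := by decide +kernel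
theorem e8aut_0 : autBlock (negG 8 240) E8.cert 0 40 = true := by decide +kernel
theorem e8aut_1 : autBlock (negG 8 240) E8.cert 40 40 = true := by decide +kernel
theorem e8aut_2 : autBlock (negG 8 240) E8.cert 80 40 = true := by decide +kernel
theorem e8aut_3 : autBlock (negG 8 240) E8.cert 120 40 = true := by decide +kernel
theorem e8aut_4 : autBlock (negG 8 240) E8.cert 160 40 = true := by decide +kernel
theorem e8aut_5 : autBlock (negG 8 240) E8.cert 200 40 = true := by decide +kernel
theorem e8_rev : okRev chevE8 = true := by decide +kernel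
theorem e8_nn : okNN chevE8 = true := by decide +kernel
theorem e8row_0 : (((okShort chevE8 && okSideRow chevE8 E8.cert 0) || okSide chevE8 E8.cert 0) &&
    okWit chevE8 E8.cert e8W 0 && okAdj chevE8 E8.cert 0) = true := by decide +kernel
theorem e8row_1 : (((okShort chevE8 && okSideRow chevE8 E8.cert 1) || okSide chevE8 E8.cert 1) &&
    okWit chevE8 E8.cert e8W 1 && okAdj chevE8 E8.cert 1) = true := by decide +kernel
theorem e8row_2 : (((okShort chevE8 && okSideRow chevE8 E8.cert 2) || okSide chevE8 E8.cert 2) &&
    okWit chevE8 E8.cert e8W 2 && okAdj chevE8 E8.cert 2) = true := by decide +kernel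
theorem e8row_3 : (((okShort chevE8 && okSideRow chevE8 E8.cert 3) || okSide chevE8 E8.cert 3) &&
    okWit chevE8 E8.cert e8W 3 && okAdj chevE8 E8.cert 3) = true := by decide +kernel
theorem e8row_4 : (((okShort chevE8 && okSideRow chevE8 E8.cert 4) || okSide chevE8 E8.cert 4) &&
    okWit chevE8 E8.cert e8W 4 && okAdj chevE8 E8.cert 4) = true := by decide +kernel
theorem e8row_5 : (((okShort chevE8 && okSideRow chevE8 E8.cert 5) || okSide chevE8 E8.cert 5) &&
    okWit chevE8 E8.cert e8W 5 && okAdj chevE8 E8.cert 5) = true := by decide +kernel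
theorem e8row_6 : (((okShort chevE8 && okSideRow chevE8 E8.cert 6) || okSide chevE8 E8.cert 6) &&
    okWit chevE8 E8.cert e8W 6 && okAdj chevE8 E8.cert 6) = true := by decide +kernel
theorem e8row_7 : (((okShort chevE8 && okSideRow chevE8 E8.cert 7) || okSide chevE8 E8.cert 7) &&
    okWit chevE8 E8.cert e8W 7 && okAdj chevE8 E8.cert 7) = true := by decide +kernel

theorem okSt_E8 : okSt chevE8 E8.cert e8W = true := by
  have hl : chevE8.rank = 8 := rfl
  have hn : chevE8.nroots = 240 := rfl
  have ha : (negG chevE8.rank chevE8.nroots).okAut E8.cert = true := by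
    rw [hl, hn]
    refine okAut_of_blocks _ _ 40 (by norm_num) e8aut_head fun j hj => ?_
    have hj' : j < 6 := by
      have : E8.cert.n = 240 := rfl
      omega
    interval_cases j
    exacts [e8aut_0, e8aut_1, e8aut_2, e8aut_3, e8aut_4, e8aut_5]
  simp only [okSt, Bool.and_eq_true, kall_iff, krange_eq, List.mem_range'_1]
  refine ⟨⟨⟨ha, e8_rev⟩, e8_nn⟩, fun i hi => ?_⟩
  rw [hl] at hi
  have hi' : i < 8 := by omega
  have key : ∀ i < 8, (((okShort chevE8 && okSideRow chevE8 E8.cert i) || okSide chevE8 E8.cert i) &&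
      okWit chevE8 E8.cert e8W i && okAdj chevE8 E8.cert i) = true := by
    intro i h
    interval_cases i
    exacts [e8row_0, e8row_1, e8row_2, e8row_3, e8row_4, e8row_5, e8row_6, e8row_7]
  simpa [Bool.and_eq_true] using key i hi'

end Cfsg.Lib.Chev.St
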