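import Cfsg.Agent.Chev.St.Data
import Cfsg.Agent.Chev.St.DataE8

/-! The checks for Steinberg's presentation hold for the seven data. -/

set_option autoImplicit false
set_option Elab.async false

open Cfsg.Lie

namespace Cfsg.Lib.Chev.St

theorem okSt_G2 : okSt chevG2 G2.cert [((0, 9), (0, 8)), ((0, 8), (0, 10))] = true := by decide +kernel
theorem okSt_B2 : okSt chevB2 B2.cert [((1, 7), (0, 6)), ((0, 6), (0, 5))] = true := by decide +kernel
theorem okSt_D4 : okSt chevD4 D4.cert [((6, 22), (1, 17)), ((1, 23), (0, 22)), ((3, 22), (1, 20)), ((2, 22), (1, 21))] = true := by decide +kernel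
theorem okSt_F4 : okSt chevF4 F4.cert [((7, 44), (3, 40)), ((3, 45), (2, 44)), ((0, 39), (0, 38)), ((1, 47), (0, 46))] = true := by decide +kernel
theorem okSt_E6 : okSt chevE6 E6.cert [((16, 66), (5, 55)), ((1, 71), (0, 70)), ((5, 69), (2, 66)), ((2, 70), (1, 69)), ((3, 69), (2, 68)), ((4, 68), (3, 67))] = true := by decide +kernel
theorem okSt_E7 : okSt chevE7 E7.cert [((1, 125), (0, 124)), ((7, 122), (3, 118)), ((2, 124), (1, 123)), ((3, 123), (2, 122)), ((4, 122), (3, 121)), ((5, 121), (4, 120)), ((6, 120), (5, 119))] = true := by decide +kernel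

theorem exists_okSt {D : ChevalleyDatum}
    (hD : D ∈ [chevG2, chevB2, chevD4, chevF4, chevE6, chevE7, chevE8]) :
    ∃ C, Struct D C ∧ okNeg D = true ∧ ∃ W, okSt D C W = true := by
  simp only [List.mem_cons, List.not_mem_nil, or_false] at hD
  rcases hD with rfl | rfl | rfl | rfl | rfl | rfl | rfl
  · exact ⟨_, ⟨G2.ok, G2.okChain_, G2.okBase_all, okOrder_G2⟩, okNeg_G2, _, okSt_G2⟩
  · exact ⟨_, ⟨B2.ok, B2.okChain_, B2.okBase_all, okOrder_B2⟩, okNeg_B2, _, okSt_B2⟩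
  · exact ⟨_, ⟨D4.ok, D4.okChain_, D4.okBase_all, okOrder_D4⟩, okNeg_D4, _, okSt_D4⟩
  · exact ⟨_, ⟨F4.ok, F4.okChain_, F4.okBase_all, okOrder_F4⟩, okNeg_F4, _, okSt_F4⟩
  · exact ⟨_, ⟨E6.ok, E6.okChain_, E6.okBase_all, okOrder_E6⟩, okNeg_E6, _, okSt_E6⟩
  · exact ⟨_, ⟨E7.ok, E7.okChain_, E7.okBase_all, okOrder_E7⟩, okNeg_E7, _, okSt_E7⟩
  · exact ⟨_, ⟨E8.ok, E8.okChain_, E8.okBase_all, okOrder_E8⟩, okNeg_E8, _, okSt_E8⟩

end Cfsg.Lib.Chev.St
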