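import Cfsg.Agent.Chev.St.Kernel
import Cfsg.Agent.Chev.St.DataOk
import Cfsg.Agent.Chev.Opp
import Cfsg.Prelude.Def_SteinbergCover

/-! Groups presented by generators `x̄_r(t)` and relators containing (R1), (R2). -/

set_option autoImplicit false

open Cfsg.Lie

namespace Cfsg.Lib.Chev.St

variable {D : ChevalleyDatum} {K : Type*} [Field K]

/-- The image of a free generator. -/
def pgen (rels : Set (FreeGroup (Fin D.nroots × K))) (r : ℕ) (t : K) : PresentedGroup rels :=
  PresentedGroup.mk rels (D.stX r t)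

theorem mk_stWord (rels : Set (FreeGroup (Fin D.nroots × K))) (w : List (ℕ × K)) :
    PresentedGroup.mk rels (D.stWord w) = (w.map fun p => pgen rels p.1 p.2).prod := by
  rw [ChevalleyDatum.stWord, map_list_prod, List.map_map]
  rfl

variable {C : Cert} {rels : Set (FreeGroup (Fin D.nroots × K))}

theorem mk_eq_one_of_mem {g : FreeGroup (Fin D.nroots × K)} (hg : g ∈ rels) : PresentedGroup.mk rels g = 1 :=
  (QuotientGroup.eq_one_iff g).2 (Subgroup.subset_normalClosure hg)

/-- The data of `St.Pres` for a presented group. -/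
def presentedPres (S : Struct D C) (hN : okNeg D = true) (ok : ∃ W, okSt D C W = true)
    (h12 : D.steinbergRelsAB K ⊆ rels) (θ : PresentedGroup rels →* GL D.Idx K)
    (hθ : ∀ r < D.nroots, ∀ t, θ (pgen rels r t) = S.ok.xG r t) : St.Pres D C K (PresentedGroup rels) where
  S := S
  hN := hN
  ok := ok
  x := pgen rels
  hx r hr t u := by
    have h := mk_eq_one_of_mem (h12 (Or.inl ⟨r, t, u, hr, rfl⟩))
    rw [map_mul, map_mul, map_inv, mul_inv_eq_one] at h
    exact h
  hc r hr s hs h1 h2 t u := by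
    have h := mk_eq_one_of_mem (h12 (Or.inr ⟨r, s, t, u, hr, hs, h1, h2, rfl⟩))
    rw [map_mul, map_mul, map_mul, map_mul, map_inv, map_inv, map_inv, mul_inv_eq_one, mk_stWord] at h
    exact h
  θ := θ
  hθ := hθ

theorem presentedPres_gen_top (S : Struct D C) (hN : okNeg D = true) (ok : ∃ W, okSt D C W = true)
    (h12 : D.steinbergRelsAB K ⊆ rels) (θ : PresentedGroup rels →* GL D.Idx K)
    (hθ : ∀ r < D.nroots, ∀ t, θ (pgen rels r t) = S.ok.xG r t) :
    (presentedPres S hN ok h12 θ hθ).gen {r | r < D.nroots} = ⊤ := by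
  rw [eq_top_iff, ← PresentedGroup.closure_range_of rels]
  refine (Subgroup.closure_le _).2 ?_
  rintro g ⟨⟨r, t⟩, rfl⟩
  refine Subgroup.subset_closure ⟨r.val, r.isLt, t, ?_⟩
  show _ = PresentedGroup.mk rels (D.stX r.val t)
  rw [ChevalleyDatum.stX, dif_pos r.isLt]
  rfl

theorem presentedPres_hh (S : Struct D C) (hN : okNeg D = true) (ok : ∃ W, okSt D C W = true)
    (h12 : D.steinbergRelsAB K ⊆ rels) (θ : PresentedGroup rels →* GL D.Idx K)
    (hθ : ∀ r < D.nroots, ∀ t, θ (pgen rels r t) = S.ok.xG r t) (r : ℕ) (t : K) :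
    (presentedPres S hN ok h12 θ hθ).hh r t = PresentedGroup.mk rels (D.stH r t) := by
  rw [ChevalleyDatum.stH, mk_stWord]
  simp only [Pres.hh, Pres.nn, presentedPres, ChevalleyDatum.hWord, ChevalleyDatum.nWord, List.cons_append,
    List.nil_append, List.map_cons, List.map_nil, List.prod_cons, List.prod_nil, mul_one, mul_assoc]

theorem lift_stX (S : Struct D C) {r : ℕ} (hr : r < D.nroots) (t : K) :
    FreeGroup.lift (fun p : Fin D.nroots × K => S.ok.xG p.1.val p.2) (D.stX r t) = S.ok.xG r t := by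
  rw [ChevalleyDatum.stX, dif_pos hr, FreeGroup.lift_apply_of]

theorem lift_stWord (S : Struct D C) (w : List (ℕ × K)) (hw : ∀ p ∈ w, p.1 < D.nroots) :
    FreeGroup.lift (fun p : Fin D.nroots × K => S.ok.xG p.1.val p.2) (D.stWord w) = S.ok.wG w := by
  rw [ChevalleyDatum.stWord, map_list_prod, List.map_map]
  exact congrArg List.prod (List.map_congr_left fun p hp => lift_stX S (hw p hp) _)

theorem lift_rels (S : Struct D C) {g : FreeGroup (Fin D.nroots × K)} (hg : g ∈ D.steinbergRels K) :
    FreeGroup.lift (fun p : Fin D.nroots × K => S.ok.xG p.1.val p.2) g = 1 := by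
  rcases hg with (⟨r, t, u, hr, rfl⟩ | ⟨r, s, t, u, hr, hs, h1, h2, rfl⟩) | ⟨r, t, u, hr, ht, hu, rfl⟩
  · rw [map_mul, map_mul, map_inv, lift_stX S hr, lift_stX S hr, lift_stX S hr, S.ok.xG_mul, mul_inv_cancel]
  · have hw : ∀ p ∈ D.commWord K r s t u, p.1 < D.nroots := by
      intro p hp
      simp only [ChevalleyDatum.commWord, List.mem_map] at hp
      obtain ⟨q, hq, rfl⟩ := hp
      exact Ok.commTerms_lt S.chain hr hs hq
    have := S.ok.commRel S.chain S.base hr hs h1 h2 t u
    simp only [map_mul, map_inv, lift_stX S hr, lift_stX S hs, lift_stWord S _ hw]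
    rw [mul_assoc _ (S.ok.xG s u) (S.ok.xG r t), this]
    group
  · have hn := S.negLt hr
    have hw : ∀ v : K, ∀ p ∈ D.hWord r v, p.1 < D.nroots := by
      intro v p hp
      simp only [ChevalleyDatum.hWord, ChevalleyDatum.nWord, List.mem_append, List.mem_cons, List.not_mem_nil,
        or_false] at hp
      rcases hp with (rfl | rfl | rfl) | (rfl | rfl | rfl) <;> assumption
    have e : ∀ v : K, S.ok.wG (D.hWord r v) = S.ok.hG r v := by
      intro v
      simp only [Ok.wG, Ok.hG, Ok.nG, ChevalleyDatum.hWord, ChevalleyDatum.nWord, List.cons_append,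
        List.nil_append, List.map_cons, List.map_nil, List.prod_cons, List.prod_nil, mul_one, mul_assoc]
    simp only [map_mul, map_inv, ChevalleyDatum.stH, lift_stWord S _ (hw _), e, S.ok.hG_mul hr ht hu, mul_inv_cancel]

theorem ab_subset : D.steinbergRelsAB K ⊆ D.steinbergRels K := fun _ hg => Or.inl hg

/-- The canonical map of a group presented by some of Steinberg's relators. -/
noncomputable def toChev (S : Struct D C) (h : rels ⊆ D.steinbergRels K) : PresentedGroup rels →* GL D.Idx K :=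
  PresentedGroup.toGroup (f := fun p => S.ok.xG p.1.val p.2) fun _ hg => lift_rels S (h hg)

theorem toChev_pgen (S : Struct D C) (h : rels ⊆ D.steinbergRels K) {r : ℕ} (hr : r < D.nroots) (t : K) :
    toChev S h (pgen rels r t) = S.ok.xG r t := by
  rw [pgen, ChevalleyDatum.stX, dif_pos hr]
  exact PresentedGroup.toGroup.of _

theorem range_eq_group (P : Pres D C K (PresentedGroup rels)) (hgen : P.gen {r | r < D.nroots} = ⊤) :
    P.θ.range = D.group K := by
  rw [MonoidHom.range_eq_map, ← hgen, Pres.gen, MonoidHom.map_closure]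
  refine le_antisymm ((Subgroup.closure_le _).2 ?_) ((Subgroup.closure_le _).2 ?_)
  · rintro g ⟨_, ⟨r, hr, t, rfl⟩, rfl⟩
    rw [P.hθ r hr]
    exact P.S.ok.xG_mem_group r t
  · rintro g ⟨r, t, hg⟩
    refine Subgroup.subset_closure ⟨_, ⟨r.val, r.isLt, t, rfl⟩, ?_⟩
    rw [P.hθ _ r.isLt]
    refine (P.S.ok.eq_xG ?_).symm
    rw [hg, ChevalleyDatum.x, dif_pos r.isLt]

theorem ker_eq_center {G : Type*} [Group G] (θ : G →* GL D.Idx K) {H : Subgroup (GL D.Idx K)}
    (hran : θ.range = H) (hz : Subgroup.center ↥H = ⊥) (hle : θ.ker ≤ Subgroup.center G) :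
    θ.ker = Subgroup.center G := by
  refine le_antisymm hle fun z hzc => ?_
  have hmem : θ z ∈ H := hran ▸ ⟨z, rfl⟩
  have : (⟨θ z, hmem⟩ : ↥H) ∈ Subgroup.center ↥H := by
    rw [Subgroup.mem_center_iff]
    rintro ⟨y, hy⟩
    rw [← hran] at hy
    obtain ⟨w, rfl⟩ := hy
    apply Subtype.ext
    show θ w * θ z = θ z * θ w
    rw [← map_mul, ← map_mul, (Subgroup.mem_center_iff.1 hzc w)]
  rw [hz, Subgroup.mem_bot] at this
  exact congrArg Subtype.val this

theorem center_group_bot (hD : D ∈ [chevG2, chevB2, chevD4, chevF4, chevE6, chevE7, chevE8]) :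
    Subgroup.center ↥(D.group K) = ⊥ := by
  obtain ⟨C, L, S, hN, hL⟩ := opp_of_mem hD
  exact S.center_group_eq_bot hN hL

end Cfsg.Lib.Chev.St
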