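import Cfsg.Agent.Chev.St.Embed
import Cfsg.Agent.Chev.Chunk

/-! Certificates for the centres. -/

set_option autoImplicit false
set_option Elab.async false

open Cfsg.Lie

namespace Cfsg.Lib.Chev.St

theorem okTorus_G2 : okTorus chevG2 1 0 [1, 0] [2, 1] [[0, 3], [0, 2]] = true := by decide +kernel
theorem okTorus_F4 : okTorus chevF4 1 0 [1, 0, 0, 0] [2, 3, 2, 1] [[0, 3, 4, 2], [0, 6, 8, 4], [0, 4, 6, 3], [0, 2, 3, 2]] = true := by decide +kernel
theorem okTorus_E6 : okTorus chevE6 3 0 [1, 0, 2, 0, 1, 2] [4, 3, 5, 6, 4, 2] [[0, 1, -1, 2, 0, -2], [0, 2, 0, 3, 1, -1], [0, 2, 0, 4, 1, -2], [0, 3, 0, 6, 2, -2], [0, 2, 0, 4, 2, -1], [0, 1, 0, 2, 1, 0]] = true := by decide +kernel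
theorem okTorus_E7 : okTorus chevE7 2 1 [0, 1, 0, 0, 1, 0, 1] [4, 7, 8, 12, 9, 6, 3] [[2, 0, 3, 4, 1, 2, -1], [2, 0, 4, 6, 1, 3, -2], [3, 0, 6, 8, 2, 4, -2], [4, 0, 8, 12, 3, 6, -3], [3, 0, 6, 9, 3, 5, -2], [2, 0, 4, 6, 2, 4, -1], [1, 0, 2, 3, 1, 2, 0]] = true := by decide +kernel
theorem okTorus_E8 : okTorus chevE8 1 0 [1, 0, 0, 0, 0, 0, 0, 0] [4, 5, 7, 10, 8, 6, 4, 2] [[0, 5, 7, 10, 8, 6, 4, 2], [0, 8, 10, 15, 12, 9, 6, 3], [0, 10, 14, 20, 16, 12, 8, 4], [0, 15, 20, 30, 24, 18, 12, 6], [0, 12, 16, 24, 20, 15, 10, 5], [0, 9, 12, 18, 15, 12, 8, 4], [0, 6, 8, 12, 10, 8, 6, 3], [0, 3, 4, 6, 5, 4, 3, 2]] = true := by decide +kernel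

theorem okEmb_E6 : okEmb chevE6 chevE7 [6, 10, 13, 15, 16, 19, 21, 22, 24, 25, 26, 28, 29, 30, 31, 32, 35, 37, 38, 40, 41, 42, 44, 45, 46, 47, 49, 50, 51, 52, 54, 55, 56, 58, 59, 61, 64, 66, 67, 69, 70, 71, 73, 74, 75, 76, 78, 79, 80, 81, 83, 84, 85, 87, 88, 90, 93, 94, 95, 96, 97, 99, 100, 101, 103, 104, 106, 109, 110, 112, 115, 119] = true := by decide +kernel
/-- The embedding of E7 in E8. -/
noncomputable def io7 : List ℕ := [13, 20, 25, 29, 32, 34, 35, 39, 42, 44, 45, 48, 50, 51, 53, 54, 55, 58, 60, 61, 63, 64, 65, 67, 68, 69, 70, 72, 73, 74, 75, 76, 77, 80, 82, 83, 85, 86, 87, 89, 90, 91, 92, 94, 95, 96, 97, 98, 100, 101, 102, 103, 104, 106, 107, 108, 109, 111, 112, 113, 115, 116, 118, 121, 123, 124, 126, 127, 128, 130, 131, 132, 133, 135, 136, 137, 138, 139, 141, 142, 143, 144, 145, 147, 148, 149, 150, 152, 153, 154, 156, 157, 159, 162, 163, 164, 165, 166, 167, 169, 170, 171, 172, 174, 175, 176, 178, 179, 181, 184, 185, 186, 188, 189, 191, 194, 195,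 197, 200, 204, 205, 207, 210, 214, 219, 226]

set_option maxHeartbeats 0 in
theorem e7emb_head : okEmbHead chevE7 chevE8 io7 = true := by decide +kernel
set_option maxHeartbeats 0 in
theorem e7emb_0 : kall (okEmbRow chevE7 chevE8 io7) (krange 0 7) = true := by decide +kernel
set_option maxHeartbeats 0 in
theorem e7emb_1 : kall (okEmbRow chevE7 chevE8 io7) (krange 7 7) = true := by decide +kernel
set_option maxHeartbeats 0 in
theorem e7emb_2 : kall (okEmbRow chevE7 chevE8 io7) (krange 14 7) = true := by decide +kernel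
set_option maxHeartbeats 0 in
theorem e7emb_3 : kall (okEmbRow chevE7 chevE8 io7) (krange 21 7) = true := by decide +kernel
set_option maxHeartbeats 0 in
theorem e7emb_4 : kall (okEmbRow chevE7 chevE8 io7) (krange 28 7) = true := by decide +kernel
set_option maxHeartbeats 0 in
theorem e7emb_5 : kall (okEmbRow chevE7 chevE8 io7) (krange 35 7) = true := by decide +kernel
set_option maxHeartbeats 0 in
theorem e7emb_6 : kall (okEmbRow chevE7 chevE8 io7) (krange 42 7) = true := by decide +kernel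
set_option maxHeartbeats 0 in
theorem e7emb_7 : kall (okEmbRow chevE7 chevE8 io7) (krange 49 7) = true := by decide +kernel
set_option maxHeartbeats 0 in
theorem e7emb_8 : kall (okEmbRow chevE7 chevE8 io7) (krange 56 7) = true := by decide +kernel
set_option maxHeartbeats 0 in
theorem e7emb_9 : kall (okEmbRow chevE7 chevE8 io7) (krange 63 7) = true := by decide +kernel
set_option maxHeartbeats 0 in
theorem e7emb_10 : kall (okEmbRow chevE7 chevE8 io7) (krange 70 7) = true := by decide +kernel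
set_option maxHeartbeats 0 in
theorem e7emb_11 : kall (okEmbRow chevE7 chevE8 io7) (krange 77 7) = true := by decide +kernel
set_option maxHeartbeats 0 in
theorem e7emb_12 : kall (okEmbRow chevE7 chevE8 io7) (krange 84 7) = true := by decide +kernel
set_option maxHeartbeats 0 in
theorem e7emb_13 : kall (okEmbRow chevE7 chevE8 io7) (krange 91 7) = true := by decide +kernel
set_option maxHeartbeats 0 in
theorem e7emb_14 : kall (okEmbRow chevE7 chevE8 io7) (krange 98 7) = true := by decide +kernel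
set_option maxHeartbeats 0 in
theorem e7emb_15 : kall (okEmbRow chevE7 chevE8 io7) (krange 105 7) = true := by decide +kernel
set_option maxHeartbeats 0 in
theorem e7emb_16 : kall (okEmbRow chevE7 chevE8 io7) (krange 112 7) = true := by decide +kernel
set_option maxHeartbeats 0 in
theorem e7emb_17 : kall (okEmbRow chevE7 chevE8 io7) (krange 119 7) = true := by decide +kernel

theorem okEmb_E7 : okEmb chevE7 chevE8 io7 = true := by
  have hn : chevE7.nroots = 126 := rfl
  show (okEmbHead chevE7 chevE8 io7 && kall (okEmbRow chevE7 chevE8 io7) (krange 0 chevE7.nroots)) = true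
  rw [e7emb_head, Bool.true_and, hn]
  refine kall_blocks 126 7 (by norm_num) fun j hj => ?_
  have hj' : j < 18 := by omega
  interval_cases j
  · exact e7emb_0
  · exact e7emb_1
  · exact e7emb_2
  · exact e7emb_3
  · exact e7emb_4
  · exact e7emb_5
  · exact e7emb_6
  · exact e7emb_7
  · exact e7emb_8
  · exact e7emb_9
  · exact e7emb_10
  · exact e7emb_11
  · exact e7emb_12
  · exact e7emb_13
  · exact e7emb_14
  · exact e7emb_15
  · exact e7emb_16
  · exact e7emb_17

theorem okCol_E6 : okCol chevE6 chevE7 3 [1, 0, 2, 0, 1, 2] 1 = true := by decide +kernel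
theorem okCol_E7 : okCol chevE7 chevE8 2 [0, 1, 0, 0, 1, 0, 1] 1 = true := by decide +kernel

end Cfsg.Lib.Chev.St
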