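import Cfsg.Agent.Chev.St.Present
import Mathlib.GroupTheory.SpecificGroups.Cyclic
import Mathlib.GroupTheory.NoncommPiCoprod

/-! The kernel of the map from Steinberg's group onto the Chevalley group as the image of a kernel on the torus. -/

set_option autoImplicit false

open Cfsg.Lie

namespace Cfsg.Lib.Chev

namespace St.Pres

variable {D : ChevalleyDatum} {C : Cert} {F : Type*} [Field F] {G : Type*} [Group G] (P : St.Pres D C F G)
include P

/-- Steinberg's relators (R3) for the fundamental roots. -/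
def R3 (P : St.Pres D C F G) : Prop :=
  ∀ i < D.rank, ∀ t u : F, t ≠ 0 → u ≠ 0 → P.hh (C.sr i) t * P.hh (C.sr i) u = P.hh (C.sr i) (t * u)

theorem hh_one {i : ℕ} (hi : i < D.rank) : P.hh (C.sr i) (1 : F) = 1 := by
  rw [hh, P.nn_mul_neg (P.sr_lt hi)]

theorem hh_comm (h3 : P.R3) {i j : ℕ} (hi : i < D.rank) (hj : j < D.rank) {t u : F} (ht : t ≠ 0) (hu : u ≠ 0) :
    P.hh (C.sr i) t * P.hh (C.sr j) u = P.hh (C.sr j) u * P.hh (C.sr i) t := by
  have hq := P.sr_lt hj
  have hc0 : t ^ D.cartan i (C.sr j) ≠ 0 := zpow_ne_zero _ ht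
  obtain ⟨-, h2⟩ : True ∧ t ^ D.cartan i (C.sr j) * t ^ D.cartan i (D.neg (C.sr j)) = 1 := by
    refine ⟨trivial, ?_⟩
    have hn := P.neg_lt hq
    rw [← P.S.ok.cart_eq hi hn, ← P.S.ok.cart_eq hi hq, ← P.S.ok.neg_eq hq,
      (P.S.ok.refl_spec hi hq).2.2.2.2.1, ← zpow_add₀ ht, add_neg_cancel, zpow_zero]
  set g := P.hh (C.sr i) t with hg
  set c := t ^ D.cartan i (C.sr j) with hc
  set c' := t ^ D.cartan i (D.neg (C.sr j)) with hc'
  have hnn : ∀ s : F, g * P.nn (C.sr j) s * g⁻¹ = P.nn (C.sr j) (c * s) := by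
    intro s
    rw [nn, show g * (P.x (C.sr j) s * P.x (D.neg (C.sr j)) (-s⁻¹) * P.x (C.sr j) s) * g⁻¹ =
      (g * P.x (C.sr j) s * g⁻¹) * (g * P.x (D.neg (C.sr j)) (-s⁻¹) * g⁻¹) * (g * P.x (C.sr j) s * g⁻¹) by group,
      hg, P.hconj hi hq ht, P.hconj hi (P.neg_lt hq) ht, ← hc, ← hc', nn,
      eq_inv_of_mul_eq_one_right h2, mul_neg, ← mul_inv]
  have key : g * P.hh (C.sr j) u * g⁻¹ = P.hh (C.sr j) u := by
    rw [hh, show g * (P.nn (C.sr j) u * P.nn (C.sr j) (-1)) * g⁻¹ =
      (g * P.nn (C.sr j) u * g⁻¹) * (g * P.nn (C.sr j) (-1) * g⁻¹) by group, hnn, hnn, mul_neg_one]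
    have e := h3 j hj u c hu hc0
    rw [mul_comm u c] at e
    have e2 : P.nn (C.sr j) (c * u) * P.nn (C.sr j) (-c) = P.hh (C.sr j) (c * u) * (P.hh (C.sr j) c)⁻¹ := by
      rw [← P.nn_inv hq, P.nn_eq_hh hq (c * u), P.nn_eq_hh hq c]
      group
    rw [e2, ← e]
    simp only [hh]
    group
  exact mul_inv_eq_iff_eq_mul.1 key

/-- `t ↦ h̄_i(t)`. -/
noncomputable def hhHom (h3 : P.R3) (i : Fin D.rank) : Fˣ →* G where
  toFun t := P.hh (C.sr i.val) (t : F)
  map_one' := P.hh_one i.isLt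
  map_mul' t u := (h3 i.val i.isLt t u t.ne_zero u.ne_zero).symm

/-- The torus of the presented group. -/
noncomputable def torus (h3 : P.R3) : (Fin D.rank → Fˣ) →* G :=
  MonoidHom.noncommPiCoprod (P.hhHom h3) fun i j _ t u =>
    P.hh_comm h3 i.isLt j.isLt t.ne_zero u.ne_zero

theorem torus_single (h3 : P.R3) (i : Fin D.rank) (t : Fˣ) :
    P.torus h3 (Pi.mulSingle i t) = P.hh (C.sr i.val) (t : F) :=
  MonoidHom.noncommPiCoprod_mulSingle (N := fun _ : Fin D.rank => Fˣ) (P.hhHom h3) i t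

theorem θ_torus (h3 : P.R3) : P.θ.comp (P.torus h3) = Ok.tG D F := by
  refine MonoidHom.ext fun c => ?_
  induction c using Pi.mulSingle_induction with
  | one => rw [map_one, map_one]
  | mul f g hf hg => rw [map_mul, map_mul, hf, hg]
  | mulSingle i t =>
  show P.θ (P.torus h3 (Pi.mulSingle i t)) = _
  rw [P.torus_single, P.θ_hh (P.sr_lt i.isLt), P.sr_eq i.isLt, P.S.ok.hG_simple_eq_tG]

theorem Hb_le_torus (h3 : P.R3) : P.Hb ≤ (P.torus h3).range := by
  refine (Subgroup.closure_le _).2 ?_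
  rintro g ⟨i, hi, t, ht, rfl⟩
  exact ⟨_, P.torus_single h3 ⟨i, hi⟩ (Units.mk0 t ht)⟩

theorem ker_eq_map_torus (h3 : P.R3) (hgen : P.gen {r | r < D.nroots} = ⊤) :
    P.θ.ker = Subgroup.map (P.torus h3) (Ok.tG D F).ker := by
  ext g
  constructor
  · intro hg
    obtain ⟨c, rfl⟩ := P.Hb_le_torus h3 (P.kernel hgen hg).1
    refine ⟨c, ?_, rfl⟩
    rw [SetLike.mem_coe, MonoidHom.mem_ker, ← P.θ_torus h3]
    exact hg
  · rintro ⟨c, hc, rfl⟩
    rw [MonoidHom.mem_ker, ← MonoidHom.comp_apply, P.θ_torus h3]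
    exact hc

end St.Pres

namespace St

/-- Certificate describing the kernel of the torus. -/
def okTorus (D : ChevalleyDatum) (d k : ℕ) (v w : List ℤ) (B : List (List ℤ)) : Bool :=
  decide (k < D.rank) && decide (v.getD k 0 = 1) &&
  (List.range D.rank).all (fun m =>
    decide (((List.range D.rank).map fun j => D.cartan m (D.simple j) * w.getD j 0).sum =
        (if m = k then (d : ℤ) else 0)) &&
    (List.range D.rank).all (fun i =>
      decide (((List.range D.rank).map fun j => D.cartan m (D.simple j) * (B.getD j []).getD i 0).sum =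
        (if m = i then 1 else 0) - (if m = k then v.getD i 0 else 0)))) &&
  (List.range D.nroots).all (fun s =>
    decide ((((List.range D.rank).map fun i => v.getD i 0 * D.cartan i s).sum) % (d : ℤ) = 0))

variable {D : ChevalleyDatum} {C : Cert}

theorem tG_eq_one_iff {F : Type*} [Field F] (c : Fin D.rank → Fˣ) :
    Ok.tG D F c = 1 ↔ ∀ s : Fin D.nroots, ∏ i, c i ^ D.cartan i s = 1 := by
  rw [← Units.val_inj, Ok.tG_val, Units.val_one, ← Matrix.diagonal_one, Matrix.diagonal_eq_diagonal_iff]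
  constructor
  · intro h s
    have := h (Sum.inr s)
    simp only [Sum.elim_inr] at this
    exact Units.ext (by rw [this, Units.val_one])
  · rintro h (a | s)
    · rfl
    · simp only [Sum.elim_inr]
      rw [h s, Units.val_one]

theorem prod_zpow_sum {α ι : Type*} [CommGroup α] (a : α) (e : ι → ℤ) (s : Finset ι) :
    ∏ j ∈ s, a ^ e j = a ^ ∑ j ∈ s, e j := by
  classical
  induction s using Finset.induction with
  | empty => simp
  | insert j s hj ih => rw [Finset.prod_insert hj, Finset.sum_insert hj, ih, zpow_add]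

theorem range_sum (n : ℕ) (f : ℕ → ℤ) : ((List.range n).map f).sum = ∑ j : Fin n, f j := by
  rw [Fin.sum_univ_def, ← List.map_coe_finRange_eq_range, List.map_map]
  rfl

variable {d k : ℕ} {v w : List ℤ} {B : List (List ℤ)}

theorem torus_ker {F : Type*} [Field F] (h : Ok D C) (ht : okTorus D d k v w B = true) :
    ∃ hk : k < D.rank, ∀ c : Fin D.rank → Fˣ, Ok.tG D F c = 1 ↔
      c ⟨k, hk⟩ ^ d = 1 ∧ ∀ i : Fin D.rank, c i = c ⟨k, hk⟩ ^ v.getD i.val 0 := by
  simp only [okTorus, Bool.and_eq_true, decide_eq_true_eq, List.all_eq_true, List.mem_range] at ht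
  obtain ⟨⟨⟨hk, -⟩, h1⟩, h2⟩ := ht
  refine ⟨hk, fun c => ?_⟩
  rw [tG_eq_one_iff]
  constructor
  · intro hc
    have hp : ∀ (e : Fin D.rank → ℤ), ∏ m, c m ^ (∑ j : Fin D.rank, D.cartan m.val (D.simple j.val) * e j) = 1 := by
      intro e
      simp only [← prod_zpow_sum, zpow_mul]
      rw [Finset.prod_comm]
      refine Finset.prod_eq_one fun j _ => ?_
      rw [Finset.prod_zpow]
      have := hc ⟨D.simple j.val, h.sr_eq j.isLt ▸ h.sr_lt j.isLt⟩
      rw [this, one_zpow]
    constructor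
    · have := hp fun j => w.getD j.val 0
      rw [Finset.prod_eq_single ⟨k, hk⟩] at this
      · rw [← range_sum D.rank (fun j => D.cartan k (D.simple j) * w.getD j 0), (h1 k hk).1, if_pos rfl,
          zpow_natCast] at this
        exact this
      · intro m _ hm
        rw [← range_sum D.rank (fun j => D.cartan m.val (D.simple j) * w.getD j 0), (h1 m m.isLt).1,
          if_neg (fun e => hm (Fin.ext e)), zpow_zero]
      · simp
    · intro i
      have := hp fun j => (B.getD j.val []).getD i.val 0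
      have hrw : ∀ m : Fin D.rank, c m ^ (∑ j : Fin D.rank, D.cartan m.val (D.simple j.val) * (B.getD j.val []).getD i.val 0)
          = (if m = i then c m else 1) * (if m = ⟨k, hk⟩ then c m ^ (-v.getD i.val 0) else 1) := by
        intro m
        rw [← range_sum D.rank (fun j => D.cartan m.val (D.simple j) * (B.getD j []).getD i.val 0),
          (h1 m m.isLt).2 i i.isLt, sub_eq_add_neg, zpow_add]
        simp only [Fin.ext_iff]
        congr 1 <;> split_ifs <;> simp
      rw [Finset.prod_congr rfl (fun m _ => hrw m), Finset.prod_mul_distrib, Finset.prod_ite_eq', Finset.prod_ite_eq',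
        if_pos (Finset.mem_univ _), if_pos (Finset.mem_univ _), zpow_neg] at this
      exact mul_inv_eq_one.1 this
  · rintro ⟨hd, hv⟩ s
    rw [Finset.prod_congr rfl (g := fun i : Fin D.rank => c ⟨k, hk⟩ ^ (v.getD i.val 0 * D.cartan i.val s.val))
      (fun i _ => by rw [hv i, ← zpow_mul])]
    rw [prod_zpow_sum, ← range_sum D.rank (fun i => v.getD i 0 * D.cartan i s.val)]
    obtain ⟨e, he⟩ := Int.dvd_of_emod_eq_zero (h2 s.val s.isLt)
    rw [he, zpow_mul, zpow_natCast, hd, one_zpow]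

theorem torus_ker_trivial {F : Type*} [Field F] (h : Ok D C) (ht : okTorus D 1 k v w B = true) :
    (Ok.tG D F).ker = ⊥ := by
  obtain ⟨hk, hiff⟩ := torus_ker (F := F) h ht
  refine eq_bot_iff.2 fun c hc => ?_
  obtain ⟨h1, h2⟩ := (hiff c).1 hc
  rw [pow_one] at h1
  rw [Subgroup.mem_bot]
  funext i
  rw [h2 i, h1, one_zpow]
  rfl

theorem card_torus_ker {F : Type*} [Field F] [Finite F] (h : Ok D C) (ht : okTorus D d k v w B = true) :
    Nat.card (Ok.tG D F).ker = (Nat.card F - 1).gcd d := by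
  obtain ⟨hk, hiff⟩ := torus_ker (F := F) h ht
  have hvk : v.getD k 0 = 1 := by
    simp only [okTorus, Bool.and_eq_true, decide_eq_true_eq] at ht
    exact ht.1.1.2
  rw [← Nat.card_units, ← IsCyclic.card_powMonoidHom_ker]
  refine Nat.card_congr
    { toFun := fun c => ⟨c.1 ⟨k, hk⟩, ((hiff c.1).1 c.2).1⟩
      invFun := fun z => ⟨fun i => z.1 ^ v.getD i.val 0, (hiff _).2 ⟨?_, fun i => ?_⟩⟩
      left_inv := fun c => Subtype.ext (funext fun i => (((hiff c.1).1 c.2).2 i).symm)
      right_inv := fun z => Subtype.ext (by simp only [hvk, zpow_one]) }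
  · show (z.1 ^ v.getD k 0) ^ d = 1
    rw [hvk, zpow_one]
    exact z.2
  · show z.1 ^ v.getD i.val 0 = (z.1 ^ v.getD k 0) ^ v.getD i.val 0
    rw [hvk, zpow_one]

end St

end Cfsg.Lib.Chev
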