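import Cfsg.Agent.Chev.St.Present
import Mathlib.RingTheory.IntegralDomain

/-! Over a finite field the relations (R3) follow from (R1) and (R2). -/

set_option autoImplicit false

open Cfsg.Lie

namespace Cfsg.Lib.Chev

namespace St.Pres

variable {D : ChevalleyDatum} {C : Cert} {F : Type*} [Field F] {G : Type*} [Group G] (P : St.Pres D C F G)
include P

/-- The relation (R3) for one root. -/
def R3At (P : St.Pres D C F G) (r : ℕ) : Prop :=
  ∀ t u : F, t ≠ 0 → u ≠ 0 → P.hh r t * P.hh r u = P.hh r (t * u)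

theorem hh_one' {r : ℕ} (hr : r < D.nroots) : P.hh r (1 : F) = 1 := by
  rw [hh, P.nn_mul_neg hr]

theorem neg_cart {i s : ℕ} (hi : i < D.rank) (hs : s < D.nroots) {t : F} (ht : t ≠ 0) :
    t ^ D.cartan i (D.neg s) = (t ^ D.cartan i s)⁻¹ := by
  have hn := P.neg_lt hs
  refine eq_inv_of_mul_eq_one_right ?_
  rw [← P.S.ok.cart_eq hi hn, ← P.S.ok.cart_eq hi hs, ← P.S.ok.neg_eq hs,
    (P.S.ok.refl_spec hi hs).2.2.2.2.1, ← zpow_add₀ ht, add_neg_cancel, zpow_zero]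

theorem hh_nn_conj {i : ℕ} (hi : i < D.rank) {t : F} (ht : t ≠ 0) {j : ℕ} (hj : j < D.nroots) (s : F) :
    P.hh (C.sr i) t * P.nn j s * (P.hh (C.sr i) t)⁻¹ = P.nn j (t ^ D.cartan i j * s) := by
  rw [nn, show P.hh (C.sr i) t * (P.x j s * P.x (D.neg j) (-s⁻¹) * P.x j s) * (P.hh (C.sr i) t)⁻¹ =
    (P.hh (C.sr i) t * P.x j s * (P.hh (C.sr i) t)⁻¹) *
    (P.hh (C.sr i) t * P.x (D.neg j) (-s⁻¹) * (P.hh (C.sr i) t)⁻¹) *
    (P.hh (C.sr i) t * P.x j s * (P.hh (C.sr i) t)⁻¹) by group, P.hconj hi hj ht, P.hconj hi (P.neg_lt hj) ht,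
    P.neg_cart hi hj ht, nn, mul_neg, ← mul_inv]

theorem nn_pair {r : ℕ} (hr : r < D.nroots) (a b : F) : P.nn r a * P.nn r (-b) = P.hh r a * (P.hh r b)⁻¹ := by
  rw [← P.nn_inv hr, P.nn_eq_hh hr a, P.nn_eq_hh hr b]
  group

theorem hh_conj_hh {i : ℕ} (hi : i < D.rank) {t : F} (ht : t ≠ 0) (u : F) :
    P.hh (C.sr i) t * P.hh (C.sr i) u * (P.hh (C.sr i) t)⁻¹ =
      P.hh (C.sr i) (t ^ 2 * u) * (P.hh (C.sr i) (t ^ 2))⁻¹ := by
  have hp := P.sr_lt hi
  have hc : t ^ D.cartan i (C.sr i) = t ^ (2 : ℕ) := by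
    rw [← P.S.ok.cart_eq hi hp, (P.S.ok.refl_simple hi).2.2.2]; norm_cast
  conv_lhs => rw [hh, hh]
  rw [show P.nn (C.sr i) t * P.nn (C.sr i) (-1) * (P.nn (C.sr i) u * P.nn (C.sr i) (-1)) *
      (P.nn (C.sr i) t * P.nn (C.sr i) (-1))⁻¹ =
    (P.hh (C.sr i) t * P.nn (C.sr i) u * (P.hh (C.sr i) t)⁻¹) *
    (P.hh (C.sr i) t * P.nn (C.sr i) (-1) * (P.hh (C.sr i) t)⁻¹) by rw [hh]; group,
    P.hh_nn_conj hi ht hp, P.hh_nn_conj hi ht hp, hc, mul_neg_one, P.nn_pair hp]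

theorem inv_conj_nn {r : ℕ} (hr : r < D.nroots) (hnn : D.neg (D.neg r) = r) {i : ℕ} (hi : i < D.rank)
    (hri : r = C.sr i) (a : F) (ha : a ≠ 0) (s : F) :
    P.nn r a * P.x r s * (P.nn r a)⁻¹ = P.x (D.neg r) (-(a ^ 2)⁻¹ * s) := by
  subst hri
  have hn := P.neg_lt hr
  rw [P.nn_eq_hh hr a, mul_inv_rev, show P.hh (C.sr i) a * P.nn (C.sr i) 1 * P.x (C.sr i) s *
      ((P.nn (C.sr i) 1)⁻¹ * (P.hh (C.sr i) a)⁻¹) =
    P.hh (C.sr i) a * (P.nn (C.sr i) 1 * P.x (C.sr i) s * (P.nn (C.sr i) 1)⁻¹) * (P.hh (C.sr i) a)⁻¹ by group,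
    P.nconj hi hr, (P.S.ok.refl_simple hi).1, P.S.ok.neg_eq hr, P.hconj hi hn ha, P.neg_cart hi hr ha]
  congr 1
  have hc : a ^ D.cartan i (C.sr i) = a ^ (2 : ℕ) := by
    rw [← P.S.ok.cart_eq hi hr, (P.S.ok.refl_simple hi).2.2.2]; norm_cast
  rw [hc, (P.S.ok.refl_simple hi).2.1]
  push_cast
  ring

theorem hh_comm_self [Finite F] (hgen : P.gen {r | r < D.nroots} = ⊤) {i : ℕ} (hi : i < D.rank) {t u : F}
    (ht : t ≠ 0) (hu : u ≠ 0) :
    P.hh (C.sr i) t * P.hh (C.sr i) u = P.hh (C.sr i) u * P.hh (C.sr i) t := by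
  have hp := P.sr_lt hi
  obtain ⟨v, hv⟩ := IsCyclic.exists_generator (α := Fˣ)
  let ψ : Fˣ →* GL D.Idx F :=
    { toFun := fun z => P.S.ok.hG (C.sr i) (z : F)
      map_one' := by rw [Units.val_one, ← P.θ_hh hp, P.hh_one' hp, map_one]
      map_mul' := fun y z => (P.S.ok.hG_mul hp y.ne_zero z.ne_zero).symm }
  have key : ∀ z : Fˣ, ∃ k : ℤ, ∃ c ∈ Subgroup.center G, P.hh (C.sr i) (z : F) = P.hh (C.sr i) (v : F) ^ k * c := by
    intro z
    obtain ⟨k, rfl⟩ := Subgroup.mem_zpowers_iff.1 (hv z)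
    refine ⟨k, (P.hh (C.sr i) (v : F) ^ k)⁻¹ * P.hh (C.sr i) ((v ^ k : Fˣ) : F),
      (P.kernel hgen ?_).2, by group⟩
    rw [map_mul, map_inv, map_zpow, P.θ_hh hp, P.θ_hh hp, inv_mul_eq_one]
    exact (map_zpow ψ v k).symm
  obtain ⟨k, c, hc, ek⟩ := key (Units.mk0 t ht)
  obtain ⟨l, d, hd, el⟩ := key (Units.mk0 u hu)
  rw [Units.val_mk0] at ek el
  rw [Subgroup.mem_center_iff] at hc hd
  rw [ek, el]
  calc P.hh (C.sr i) (v : F) ^ k * c * (P.hh (C.sr i) (v : F) ^ l * d)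
      = P.hh (C.sr i) (v : F) ^ k * (c * P.hh (C.sr i) (v : F) ^ l) * d := by group
    _ = P.hh (C.sr i) (v : F) ^ (k + l) * (c * d) := by rw [← hc]; group
    _ = P.hh (C.sr i) (v : F) ^ l * (P.hh (C.sr i) (v : F) ^ k * d) * c := by rw [hd]; group
    _ = _ := by rw [hd (P.hh (C.sr i) (v : F) ^ k)]; group

theorem r3_simple [Finite F] (hgen : P.gen {r | r < D.nroots} = ⊤) {i : ℕ} (hi : i < D.rank) :
    P.R3At (C.sr i) := by
  classical
  have hp := P.sr_lt hi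
  have hm := P.neg_lt hp
  set r := C.sr i with hr
  have hnnr : D.neg (D.neg r) = r := P.neg_neg hp
  have comm : ∀ t u : F, t ≠ 0 → u ≠ 0 → P.hh r t * P.hh r u = P.hh r u * P.hh r t :=
    fun t u ht hu => P.hh_comm_self hgen hi ht hu
  have hsq : ∀ t u : F, t ≠ 0 → u ≠ 0 → P.hh r (t ^ 2) * P.hh r u = P.hh r (t ^ 2 * u) := by
    intro t u ht hu
    have e := P.hh_conj_hh hi ht u
    rw [← hr, comm t u ht hu, mul_inv_cancel_right, eq_mul_inv_iff_mul_eq] at e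
    rw [comm _ u (pow_ne_zero 2 ht) hu]
    exact e
  have hneg : ∀ t : F, t ≠ 0 → P.hh r t * P.hh r (-t) = P.hh r (-(t ^ 2)) := by
    intro t ht
    have e1 : P.nn r 1 * P.nn r t * (P.nn r 1)⁻¹ = P.nn r t⁻¹ := by
      have hy : ∀ s : F, P.nn r 1 * P.x (D.neg r) s * (P.nn r 1)⁻¹ = P.x r (-s) := by
        intro s
        have e := P.inv_conj_nn hp hnnr hi hr (-1 : F) (by simp) (-s)
        rw [neg_sq, one_pow, inv_one, neg_one_mul, _root_.neg_neg] at e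
        rw [← e, ← P.nn_inv hp, inv_inv]
        group
      rw [show P.nn r t = P.x r t * P.x (D.neg r) (-t⁻¹) * P.x r t from rfl]
      rw [show P.nn r 1 * (P.x r t * P.x (D.neg r) (-t⁻¹) * P.x r t) * (P.nn r 1)⁻¹ =
        (P.nn r 1 * P.x r t * (P.nn r 1)⁻¹) * (P.nn r 1 * P.x (D.neg r) (-t⁻¹) * (P.nn r 1)⁻¹) *
        (P.nn r 1 * P.x r t * (P.nn r 1)⁻¹) by group, P.inv_conj_nn hp hnnr hi hr 1 one_ne_zero, hy,
        _root_.neg_neg, one_pow, inv_one, neg_one_mul]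
      have eC : P.nn r t⁻¹ = P.nn r t⁻¹ * P.nn r t⁻¹ * (P.nn r t⁻¹)⁻¹ := by group
      rw [eC]
      conv_rhs => arg 1; arg 2; rw [show P.nn r t⁻¹ = P.x r t⁻¹ * P.x (D.neg r) (-t⁻¹⁻¹) * P.x r t⁻¹ from rfl]
      rw [show P.nn r t⁻¹ * (P.x r t⁻¹ * P.x (D.neg r) (-t⁻¹⁻¹) * P.x r t⁻¹) * (P.nn r t⁻¹)⁻¹ =
        (P.nn r t⁻¹ * P.x r t⁻¹ * (P.nn r t⁻¹)⁻¹) * (P.nn r t⁻¹ * P.x (D.neg r) (-t⁻¹⁻¹) * (P.nn r t⁻¹)⁻¹) *
        (P.nn r t⁻¹ * P.x r t⁻¹ * (P.nn r t⁻¹)⁻¹) by group, P.inv_conj_nn hp hnnr hi hr _ (inv_ne_zero ht)]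
      have hy2 : P.nn r t⁻¹ * P.x (D.neg r) (-t⁻¹⁻¹) * (P.nn r t⁻¹)⁻¹ = P.x r t⁻¹ := by
        have e := P.inv_conj_nn hp hnnr hi hr (-t⁻¹) (by simp [ht]) t⁻¹
        rw [← P.nn_inv hp, inv_inv] at e
        have h2 : -((-t⁻¹) ^ 2)⁻¹ * t⁻¹ = -t⁻¹⁻¹ := by field_simp
        rw [h2] at e
        rw [← e]
        group
      rw [hy2, show -(t⁻¹ ^ 2)⁻¹ * t⁻¹ = -t by field_simp]
    have e2 : (P.hh r (-t))⁻¹ * P.hh r (-1) = P.hh r t⁻¹ := by
      rw [P.nn_eq_hh hp t⁻¹, P.nn_inv hp] at e1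
      have h1 : P.hh r t⁻¹ = P.nn r 1 * P.nn r t * P.nn r (-1) * P.nn r (-1) := by
        rw [e1, mul_assoc, P.nn_mul_neg hp, mul_one]
      rw [h1, hh, hh, mul_inv_rev, P.nn_inv hp, P.nn_inv hp, _root_.neg_neg, _root_.neg_neg]
      group
    have e3 := hsq t t⁻¹ ht (inv_ne_zero ht)
    rw [show t ^ 2 * t⁻¹ = t by field_simp, ← e2] at e3
    rw [← e3, mul_assoc, mul_assoc, comm (-1) (-t) (by simp) (neg_ne_zero.2 ht), inv_mul_cancel_left,
      hsq t (-1) ht (by simp), mul_neg_one]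
  have hone : ∀ t u : F, t ≠ 0 → u ≠ 0 → t + u = 1 → P.hh r t * P.hh r u = P.hh r (t * u) := by
    intro t u ht hu htu
    have hxz : P.x (D.neg r) (-(t * u)⁻¹) = P.x (D.neg r) (-t⁻¹) * P.x (D.neg r) (-u⁻¹) := by
      rw [P.hx _ hm]
      congr 1
      field_simp
      linear_combination htu
    have hsplit : ∀ a : F, P.x (D.neg r) (-a⁻¹) = P.x r (-a) * P.nn r a * P.x r (-a) := by
      intro a
      rw [nn, ← P.x_inv hp a]
      group
    have hA : P.nn r t * P.x r (-t + -u) * (P.nn r t)⁻¹ = P.x (D.neg r) (-(-(t ^ 2))⁻¹) := by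
      rw [P.inv_conj_nn hp hnnr hi hr t ht]
      congr 1
      rw [inv_neg]
      linear_combination (t ^ 2)⁻¹ * htu
    have key : P.nn r (-(t ^ 2)) * (P.nn r t * P.nn r u) = P.nn r (t * u) := by
      have e1 := hsplit (t * u)
      rw [hxz, hsplit t, hsplit u] at e1
      rw [show P.x r (-t) * P.nn r t * P.x r (-t) * (P.x r (-u) * P.nn r u * P.x r (-u)) =
        P.x r (-t) * (P.nn r t * (P.x r (-t) * P.x r (-u)) * (P.nn r t)⁻¹) * (P.nn r t * P.nn r u) * P.x r (-u) by group,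
        P.hx _ hp, hA, hsplit] at e1
      -- move the last factor to the right
      have hB : P.x r (t ^ 2) * (P.nn r t * P.nn r u) = (P.nn r t * P.nn r u) * P.x r (u ^ 2) := by
        have e := P.inv_conj_nn hp hnnr hi hr u hu (u ^ 2)
        rw [show -(u ^ 2)⁻¹ * u ^ 2 = -1 by field_simp] at e
        have e' := P.inv_conj_nn hp hnnr hi hr (-t) (neg_ne_zero.2 ht) (t ^ 2)
        rw [← P.nn_inv hp, inv_inv, show -((-t) ^ 2)⁻¹ * t ^ 2 = -1 by field_simp, ← e] at e'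
        calc P.x r (t ^ 2) * (P.nn r t * P.nn r u)
            = P.nn r t * ((P.nn r t)⁻¹ * P.x r (t ^ 2) * P.nn r t) * P.nn r u := by group
          _ = _ := by rw [e']; group
      rw [show P.x r (-t) * (P.x r (- -(t ^ 2)) * P.nn r (-(t ^ 2)) * P.x r (- -(t ^ 2))) * (P.nn r t * P.nn r u) *
          P.x r (-u) = (P.x r (-t) * P.x r (t ^ 2)) * P.nn r (-(t ^ 2)) * (P.x r (t ^ 2) * (P.nn r t * P.nn r u)) *
            P.x r (-u) by rw [_root_.neg_neg]; group, P.hx _ hp, hB, mul_assoc, mul_assoc, mul_assoc, mul_assoc,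
        P.hx _ hp, show -t + t ^ 2 = -(t * u) by linear_combination t * htu,
        show u ^ 2 + -u = -(t * u) by linear_combination u * htu, ← mul_assoc, ← mul_assoc, ← mul_assoc] at e1
      have := mul_right_cancel e1
      rw [mul_assoc, mul_assoc] at this
      simpa [mul_assoc] using mul_left_cancel this
    have ht2 : P.hh r (-(t ^ 2)) * (P.hh r (-t))⁻¹ * P.hh r u = P.hh r (t * u) := by
      rw [P.nn_eq_hh hp (t * u)] at key
      rw [← mul_left_inj (P.nn r 1), ← key, hh, hh, hh, mul_inv_rev, P.nn_inv hp, P.nn_inv hp,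
        _root_.neg_neg, _root_.neg_neg]
      rw [← P.nn_inv hp 1]
      group
    rwa [← hneg t ht, mul_inv_cancel_right] at ht2
  by_cases hall : ∀ t : F, t ≠ 0 → IsSquare t
  · intro t u ht hu
    obtain ⟨s, rfl⟩ := hall t ht
    rw [← pow_two]
    exact hsq s u (fun h => ht (by rw [h, mul_zero])) hu
  push Not at hall
  obtain ⟨ε, hε0, hε⟩ := hall
  -- two nonsquares summing to one
  obtain ⟨t, u, ht, hu, htu⟩ : ∃ t u : F, ¬ IsSquare t ∧ ¬ IsSquare u ∧ t + u = 1 := by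
    by_contra hno
    push Not at hno
    have hadd : ∀ a b : F, IsSquare a → IsSquare b → IsSquare (a + b) := by
      intro a b ha hb
      by_contra hab
      rcases eq_or_ne a 0 with rfl | ha0
      · rw [zero_add] at hab; exact hab hb
      rcases eq_or_ne b 0 with rfl | hb0
      · rw [add_zero] at hab; exact hab ha
      have hsum : a + b ≠ 0 := fun h => hab (by rw [h]; exact IsSquare.zero)
      refine hno (a / (a + b)) (b / (a + b)) ?_ ?_ (by field_simp)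
      · intro h
        obtain ⟨c, hc⟩ := ha
        obtain ⟨d, hd⟩ := h
        refine hab ⟨c / d, ?_⟩
        have hd0 : d ≠ 0 := fun h0 => ha0 (by simpa [h0, hsum] using hd)
        rw [div_eq_iff hsum] at hd
        field_simp
        linear_combination hc - hd
      · intro h
        obtain ⟨c, hc⟩ := hb
        obtain ⟨d, hd⟩ := h
        refine hab ⟨c / d, ?_⟩
        have hd0 : d ≠ 0 := fun h0 => hb0 (by simpa [h0, hsum] using hd)
        rw [div_eq_iff hsum] at hd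
        field_simp
        linear_combination hc - hd
    -- the squares form an additive subgroup
    let A : AddSubmonoid F :=
      { carrier := {a | IsSquare a}
        add_mem' := fun ha hb => hadd _ _ ha hb
        zero_mem' := IsSquare.zero }
    have hfin : ∀ a ∈ A, -a ∈ A := by
      intro a ha
      obtain ⟨p, hp'⟩ := CharP.exists F
      have hp0 : p ≠ 0 := fun h => by
        subst h
        haveI : CharZero F := CharP.charP_to_charZero F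
        exact not_finite F
      have h1 : ((p - 1 : ℕ) : F) = -1 := by
        rw [Nat.cast_sub (Nat.one_le_iff_ne_zero.2 hp0), CharP.cast_eq_zero, zero_sub, Nat.cast_one]
      have := nsmul_mem ha (p - 1)
      rwa [nsmul_eq_mul, h1, neg_one_mul] at this
    have h4 : ∀ a : F, IsSquare ((1 + a) ^ 2 + -(1 + a ^ 2)) :=
      fun a => A.add_mem ⟨1 + a, pow_two _⟩ (hfin _ (A.add_mem ⟨1, (one_mul _).symm⟩ ⟨a, pow_two a⟩))
    by_cases h2 : (2 : F) = 0
    · haveI : CharP F 2 := (CharTwo.of_one_ne_zero_of_two_eq_zero one_ne_zero h2)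
      exact hε ((FiniteField.isSquare_of_char_two (ringChar.eq F 2)) ε)
    · have h3 := h4 (ε / 2)
      rw [show (1 + ε / 2) ^ 2 + -(1 + (ε / 2) ^ 2) = ε by field_simp; ring] at h3
      exact hε h3
  have ht0 : t ≠ 0 := fun h => ht (by rw [h]; exact IsSquare.zero)
  have hu0 : u ≠ 0 := fun h => hu (by rw [h]; exact IsSquare.zero)
  have hclass : ∀ x : F, x ≠ 0 → ¬ IsSquare x → ∀ y : F, ¬ IsSquare y → y ≠ 0 → ∃ s, s ≠ 0 ∧ y = s ^ 2 * x := by
    intro x hx0 hx y hy hy0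
    haveI := Fintype.ofFinite F
    have hc : ringChar F ≠ 2 := fun h => hε (FiniteField.isSquare_of_char_two h ε)
    have h1 := quadraticChar_neg_one_iff_not_isSquare.2 hx
    have h2 := quadraticChar_neg_one_iff_not_isSquare.2 hy
    have h3 : quadraticChar F (y * x) = 1 := by rw [map_mul, h1, h2]; rfl
    obtain ⟨s, hs⟩ := (quadraticChar_one_iff_isSquare (mul_ne_zero hy0 hx0)).1 h3
    refine ⟨s / x, div_ne_zero (fun h => mul_ne_zero hy0 hx0 (by rw [hs, h, mul_zero])) hx0, ?_⟩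
    field_simp
    linear_combination hs
  intro a b ha hb
  by_cases ha' : IsSquare a
  · obtain ⟨s, rfl⟩ := ha'
    rw [← pow_two]
    exact hsq s b (fun h => ha (by rw [h, mul_zero])) hb
  by_cases hb' : IsSquare b
  · obtain ⟨s, rfl⟩ := hb'
    rw [comm _ _ ha hb, mul_comm a, ← pow_two]
    exact hsq s a (fun h => hb (by rw [h, mul_zero])) ha
  obtain ⟨s, hs, rfl⟩ := hclass t ht0 ht a ha' ha
  obtain ⟨s', hs', rfl⟩ := hclass u hu0 hu b hb' hb
  rw [← hsq s t hs ht0, ← hsq s' u hs' hu0, show P.hh r (s ^ 2) * P.hh r t * (P.hh r (s' ^ 2) * P.hh r u) =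
    P.hh r (s ^ 2) * (P.hh r t * P.hh r (s' ^ 2)) * P.hh r u by group, comm t _ ht0 (pow_ne_zero 2 hs'),
    show P.hh r (s ^ 2) * (P.hh r (s' ^ 2) * P.hh r t) * P.hh r u =
    P.hh r (s ^ 2) * P.hh r (s' ^ 2) * (P.hh r t * P.hh r u) by group, hone t u ht0 hu0 htu,
    hsq s _ hs (pow_ne_zero 2 hs'), ← mul_pow, hsq _ _ (mul_ne_zero hs hs') (mul_ne_zero ht0 hu0)]
  congr 1
  ring

theorem r3_all [Finite F] (hgen : P.gen {r | r < D.nroots} = ⊤) : ∀ r < D.nroots, P.R3At r := by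
  have step : ∀ i r, i < D.rank → r < D.nroots → P.R3At (C.w i r) → P.R3At r := by
    intro i r hi hr H
    have hs := P.S.ok.w_lt hi hr
    set η : F := (C.eta i (C.w i r) : F) with hη
    have hη0 : η ≠ 0 := Ok.eta_ne_zero C i _
    obtain ⟨c, hc, hn⟩ := P.mon_nn ⟨i, hi⟩
    have hc1 : ∀ u, P.nn (C.sr i) 1 * P.x (C.w i r) u * (P.nn (C.sr i) 1)⁻¹ = P.x r (η * u) := by
      intro u
      rw [P.nconj hi hs, P.S.ok.w_w hi hr]
    have hc2 : ∀ u, P.nn (C.sr i) 1 * P.x (D.neg (C.w i r)) u * (P.nn (C.sr i) 1)⁻¹ = P.x (D.neg r) (η * u) := by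
      intro u
      rw [P.nconj hi (P.neg_lt hs), P.neg_w hi hs, P.S.ok.w_w hi hr]
      congr 2
      rw [hη, ← P.S.ok.neg_eq hs, (P.S.ok.refl_spec hi hs).2.2.2.2.2.2.1]
    have hηinv : η⁻¹ = η := inv_eq_of_mul_eq_one_right (Ok.eta_sq C i _)
    have hconjn : ∀ u, P.nn (C.sr i) 1 * P.nn (C.w i r) u * (P.nn (C.sr i) 1)⁻¹ = P.nn r (η * u) := by
      intro u
      rw [show P.nn (C.w i r) u = P.x (C.w i r) u * P.x (D.neg (C.w i r)) (-u⁻¹) * P.x (C.w i r) u from rfl, show P.nn (C.sr i) 1 *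
          (P.x (C.w i r) u * P.x (D.neg (C.w i r)) (-u⁻¹) * P.x (C.w i r) u) * (P.nn (C.sr i) 1)⁻¹ =
        (P.nn (C.sr i) 1 * P.x (C.w i r) u * (P.nn (C.sr i) 1)⁻¹) *
        (P.nn (C.sr i) 1 * P.x (D.neg (C.w i r)) (-u⁻¹) * (P.nn (C.sr i) 1)⁻¹) *
        (P.nn (C.sr i) 1 * P.x (C.w i r) u * (P.nn (C.sr i) 1)⁻¹) by group, hc1, hc2,
        show P.nn r (η * u) = P.x r (η * u) * P.x (D.neg r) (-(η * u)⁻¹) * P.x r (η * u) from rfl]
      congr 3
      rw [mul_inv, hηinv, mul_neg]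
    set N := P.nn (C.sr i) 1 with hN
    have hφ : ∀ u : F, N * P.hh (C.w i r) u * N⁻¹ = P.hh r (η * u) * (P.hh r η)⁻¹ := by
      intro u
      rw [show P.hh (C.w i r) u = P.nn (C.w i r) u * P.nn (C.w i r) (-1) from rfl, show N * (P.nn (C.w i r) u * P.nn (C.w i r) (-1)) * N⁻¹ =
        (N * P.nn (C.w i r) u * N⁻¹) * (N * P.nn (C.w i r) (-1) * N⁻¹) by group, hconjn, hconjn, mul_neg_one,
        P.nn_pair hr]
    have hη' : P.hh r η = N * P.hh (C.w i r) η * N⁻¹ := by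
      have h1 := hφ η
      rw [Ok.eta_sq, P.hh_one' hr, one_mul] at h1
      have h2 : P.hh (C.w i r) η * P.hh (C.w i r) η = 1 := by
        rw [H η η hη0 hη0, Ok.eta_sq, P.hh_one' hs]
      rw [← inv_inj, ← h1, mul_inv_rev, mul_inv_rev, inv_inv, inv_eq_of_mul_eq_one_right h2, mul_assoc]
    have hall : ∀ u, u ≠ 0 → P.hh r u = N * P.hh (C.w i r) u * N⁻¹ := by
      intro u hu
      have h1 := hφ (η * u)
      rw [← mul_assoc η η u, Ok.eta_sq, one_mul, hη', ← H η u hη0 hu, eq_mul_inv_iff_mul_eq] at h1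
      rw [← h1, show N * (P.hh (C.w i r) η * P.hh (C.w i r) u) * N⁻¹ * (N * P.hh (C.w i r) η * N⁻¹) =
        N * (P.hh (C.w i r) η * P.hh (C.w i r) u * P.hh (C.w i r) η) * N⁻¹ by group, H η u hη0 hu,
        H _ _ (mul_ne_zero hη0 hu) hη0, show η * u * η = (η * η) * u by ring, Ok.eta_sq, one_mul]
    intro t u ht hu
    rw [hall t ht, hall u hu, hall _ (mul_ne_zero ht hu), ← H t u ht hu]
    group
  refine P.S.ok.root_induction (fun i hi => ⟨P.r3_simple hgen hi, ?_⟩) step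
  refine step i _ hi (P.S.ok.neg_lt (P.sr_lt hi)) ?_
  rw [← (P.S.ok.refl_simple hi).1, P.S.ok.w_w hi (P.sr_lt hi)]
  exact P.r3_simple hgen hi

end St.Pres

end Cfsg.Lib.Chev
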