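import Cfsg.Agent.Chev.St.Center

/-! Steinberg's group of a datum maps into the Chevalley group of a bigger datum. -/

set_option autoImplicit false

open Cfsg.Lie

namespace Cfsg.Lib.Chev

namespace St

theorem r3_of_rels {D : ChevalleyDatum} {C : Cert} {K : Type*} [Field K] (S : Struct D C) (hN : okNeg D = true)
    (ok : ∃ W, okSt D C W = true) (θ : D.SteinbergGroup K →* GL D.Idx K)
    (hθ : ∀ r < D.nroots, ∀ t, θ (pgen (D.steinbergRels K) r t) = S.ok.xG r t) :
    (presentedPres S hN ok ab_subset θ hθ).R3 := by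
  intro i hi t u ht hu
  rw [presentedPres_hh, presentedPres_hh, presentedPres_hh, ← mul_inv_eq_one, ← map_inv, ← map_mul, ← map_mul]
  exact mk_eq_one_of_mem (Or.inr ⟨C.sr i, t, u, S.ok.sr_lt hi, ht, hu, rfl⟩)

/-- One row of `okEmb`. -/
noncomputable def okEmbRow (D E : ChevalleyDatum) (io : List ℕ) (r : ℕ) : Bool :=
  Nat.blt (io.getD r 0) E.nroots && Nat.beq (E.neg (io.getD r 0)) (io.getD (D.neg r) 0) &&
    kall (fun s => Nat.beq s r || !(Nat.beq (io.getD s 0) (io.getD r 0))) (krange 0 D.nroots) &&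
    kall (fun s => Nat.beq s r || Nat.beq s (D.neg r) ||
      decide ((D.commTerms r s).map (fun q => (io.getD q.1 0, q.2)) = E.commTerms (io.getD r 0) (io.getD s 0)))
      (krange 0 D.nroots)

/-- `io` embeds the roots of `D` among those of `E`, respecting the structure constants. -/
noncomputable def okEmb (D E : ChevalleyDatum) (io : List ℕ) : Bool :=
  decide (E.rank = D.rank + 1) &&
  (List.range D.rank).all (fun i => decide (io.getD (D.simple i) 0 = E.simple i)) &&
  kall (okEmbRow D E io) (krange 0 D.nroots)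

/-- The part of `okEmb` outside the rows. -/
def okEmbHead (D E : ChevalleyDatum) (io : List ℕ) : Bool :=
  decide (E.rank = D.rank + 1) &&
  (List.range D.rank).all (fun i => decide (io.getD (D.simple i) 0 = E.simple i))

/-- The added column kills the kernel of the torus. -/
def okCol (D E : ChevalleyDatum) (d : ℕ) (v : List ℤ) (p : ℤ) : Bool :=
  decide ((p * ((List.range D.rank).map fun i => v.getD i 0 * E.cartan i (E.simple D.rank)).sum - 1) % (d : ℤ) = 0)

variable {D E : ChevalleyDatum} {C C' : Cert} {K : Type*} [Field K] {io : List ℕ}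

theorem emb_spec (hio : okEmb D E io = true) :
    E.rank = D.rank + 1 ∧ (∀ i < D.rank, io.getD (D.simple i) 0 = E.simple i) ∧
    ∀ r < D.nroots, io.getD r 0 < E.nroots ∧ E.neg (io.getD r 0) = io.getD (D.neg r) 0 ∧
      (∀ s < D.nroots, s ≠ r → io.getD s 0 ≠ io.getD r 0) ∧
      ∀ s < D.nroots, s ≠ r → s ≠ D.neg r →
        (D.commTerms r s).map (fun q => (io.getD q.1 0, q.2)) = E.commTerms (io.getD r 0) (io.getD s 0) := by
  simp only [okEmb, Bool.and_eq_true, decide_eq_true_eq, List.all_eq_true, List.mem_range] at hio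
  obtain ⟨⟨h1, h2⟩, h3⟩ := hio
  refine ⟨h1, h2, fun r hr => ?_⟩
  have h4 := kall_krange h3 r hr
  simp only [okEmbRow, Bool.and_eq_true, blt_true] at h4
  obtain ⟨⟨⟨a1, a2⟩, a3⟩, a4⟩ := h4
  refine ⟨a1, Nat.eq_of_beq_eq_true a2, fun s hs hne => ?_, fun s hs hne hne2 => ?_⟩
  · have := kall_krange a3 s hs
    simp only [Bool.or_eq_true, Bool.not_eq_true'] at this
    rcases this with h | h
    · exact absurd (Nat.eq_of_beq_eq_true h) hne
    · exact Nat.ne_of_beq_eq_false h
  · have := kall_krange a4 s hs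
    simp only [Bool.or_eq_true, decide_eq_true_eq] at this
    rcases this with (h | h) | h
    · exact absurd (Nat.eq_of_beq_eq_true h) hne
    · exact absurd (Nat.eq_of_beq_eq_true h) hne2
    · exact h

theorem lift_emb (S : Struct D C) (S' : Struct E C') (hio : okEmb D E io = true)
    {g : FreeGroup (Fin D.nroots × K)} (hg : g ∈ D.steinbergRels K) :
    FreeGroup.lift (fun p : Fin D.nroots × K => S'.ok.xG (io.getD p.1.val 0) p.2) g = 1 := by
  obtain ⟨-, -, he⟩ := emb_spec hio
  have hx : ∀ {r : ℕ}, r < D.nroots → ∀ t : K,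
      FreeGroup.lift (fun p : Fin D.nroots × K => S'.ok.xG (io.getD p.1.val 0) p.2) (D.stX r t) =
        S'.ok.xG (io.getD r 0) t := fun {r} hr t => by
    rw [ChevalleyDatum.stX, dif_pos hr, FreeGroup.lift_apply_of]
  have hw : ∀ w : List (ℕ × K), (∀ p ∈ w, p.1 < D.nroots) →
      FreeGroup.lift (fun p : Fin D.nroots × K => S'.ok.xG (io.getD p.1.val 0) p.2) (D.stWord w) =
        S'.ok.wG (w.map fun p => (io.getD p.1 0, p.2)) := fun w hw => by
    rw [ChevalleyDatum.stWord, map_list_prod, List.map_map, Ok.wG, List.map_map]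
    exact congrArg List.prod (List.map_congr_left fun p hp => hx (hw p hp) _)
  rcases hg with (⟨r, t, u, hr, rfl⟩ | ⟨r, s, t, u, hr, hs, h1, h2, rfl⟩) | ⟨r, t, u, hr, ht, hu, rfl⟩
  · rw [map_mul, map_mul, map_inv, hx hr, hx hr, hx hr, S'.ok.xG_mul, mul_inv_cancel]
  · obtain ⟨hrlt, hneg, hinj, hc⟩ := he r hr
    have hlt : ∀ p ∈ D.commWord K r s t u, p.1 < D.nroots := by
      intro p hp
      simp only [ChevalleyDatum.commWord, List.mem_map] at hp
      obtain ⟨q, hq, rfl⟩ := hp
      exact Ok.commTerms_lt S.chain hr hs hq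
    have hn : io.getD s 0 ≠ E.neg (io.getD r 0) := by
      rw [hneg]
      exact (he _ (S.negLt hr)).2.2.1 s hs h2
    have := S'.ok.commRel S'.chain S'.base hrlt (he s hs).1 (hinj s hs h1) hn t u
    simp only [map_mul, map_inv, hx hr, hx hs, hw _ hlt]
    have e : (D.commWord K r s t u).map (fun p => (io.getD p.1 0, p.2)) =
        E.commWord K (io.getD r 0) (io.getD s 0) t u := by
      simp only [ChevalleyDatum.commWord, ← hc s hs h1 h2, List.map_map]
      rfl
    rw [e, mul_assoc _ (S'.ok.xG (io.getD s 0) u) (S'.ok.xG (io.getD r 0) t), this]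
    group
  · obtain ⟨hrlt, hneg, -, -⟩ := he r hr
    have hn := S.negLt hr
    have hlt : ∀ v : K, ∀ p ∈ D.hWord r v, p.1 < D.nroots := by
      intro v p hp
      simp only [ChevalleyDatum.hWord, ChevalleyDatum.nWord, List.mem_append, List.mem_cons, List.not_mem_nil,
        or_false] at hp
      rcases hp with (rfl | rfl | rfl) | (rfl | rfl | rfl) <;> assumption
    have e : ∀ v : K, S'.ok.wG ((D.hWord r v).map fun p => (io.getD p.1 0, p.2)) = S'.ok.hG (io.getD r 0) v := by
      intro v
      simp only [Ok.wG, Ok.hG, Ok.nG, ChevalleyDatum.hWord, ChevalleyDatum.nWord, List.cons_append,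
        List.nil_append, List.map_cons, List.map_nil, List.prod_cons, List.prod_nil, mul_one, mul_assoc, hneg]
    simp only [map_mul, map_inv, ChevalleyDatum.stH, hw _ (hlt _), e, S'.ok.hG_mul hrlt ht hu, mul_inv_cancel]

/-- Extend a torus element by `1`. -/
def extTorus (K : Type*) [Field K] (m n : ℕ) : (Fin m → Kˣ) →* (Fin n → Kˣ) where
  toFun c j := if h : j.val < m then c ⟨j.val, h⟩ else 1
  map_one' := by funext j; split_ifs <;> simp
  map_mul' a b := by funext j; simp only [Pi.mul_apply]; split_ifs <;> simp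

theorem card_center_steinberg [Finite K] (hD : D ∈ [chevG2, chevB2, chevD4, chevF4, chevE6, chevE7, chevE8])
    (S : Struct D C) (hN : okNeg D = true) (ok : ∃ W, okSt D C W = true) (S' : Struct E C')
    (hio : okEmb D E io = true) {d k : ℕ} {v w : List ℤ} {B : List (List ℤ)}
    (ht : okTorus D d k v w B = true) {p : ℤ} (hp : okCol D E d v p = true) :
    Nat.card (Subgroup.center (D.SteinbergGroup K)) = (Nat.card K - 1).gcd d := by
  have hθ : ∀ r < D.nroots, ∀ t, toChev S (subset_refl (D.steinbergRels K)) (pgen (D.steinbergRels K) r t) =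
      S.ok.xG r t := fun r hr t => toChev_pgen S _ hr t
  set θ := toChev S (subset_refl (D.steinbergRels K)) with hθdef
  set P := presentedPres S hN ok ab_subset θ hθ with hP
  have hgen := presentedPres_gen_top S hN ok ab_subset θ hθ
  have h3 : P.R3 := r3_of_rels S hN ok θ hθ
  have hker : θ.ker = Subgroup.center (D.SteinbergGroup K) :=
    ker_eq_center θ (range_eq_group P hgen) (center_group_bot hD) fun g hg => (P.kernel hgen hg).2
  rw [← hker, show θ.ker = Subgroup.map (P.torus h3) (Ok.tG D K).ker from P.ker_eq_map_torus h3 hgen,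
    ← card_torus_ker S.ok ht]
  obtain ⟨hrk, hsimp, he⟩ := emb_spec hio
  let θ' : D.SteinbergGroup K →* GL E.Idx K :=
    PresentedGroup.toGroup (f := fun p => S'.ok.xG (io.getD p.1.val 0) p.2) fun _ hg => lift_emb S S' hio hg
  have hθ' : θ'.comp (P.torus h3) = (Ok.tG E K).comp (extTorus K D.rank E.rank) := by
    refine MonoidHom.ext fun c => ?_
    induction c using Pi.mulSingle_induction with
    | one => rw [map_one, map_one]
    | mul f g hf hg => rw [map_mul, map_mul, hf, hg]
    | mulSingle i t =>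
      have hi' : i.val < E.rank := by omega
      have e : extTorus K D.rank E.rank (Pi.mulSingle i t) = Pi.mulSingle ⟨i.val, hi'⟩ t := by
        funext j
        show (if h : j.val < D.rank then Pi.mulSingle (M := fun _ => Kˣ) i t ⟨j.val, h⟩ else 1) = _
        simp only [Pi.mulSingle_apply, Fin.ext_iff]
        split_ifs <;> first | rfl | omega
      rw [MonoidHom.comp_apply, MonoidHom.comp_apply, P.torus_single, e, hP, presentedPres_hh, S.ok.sr_eq i.isLt]
      rw [← S'.ok.hG_simple_eq_tG ⟨i.val, hi'⟩ t, ← hsimp i.val i.isLt]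
      have hs := S.ok.sr_eq i.isLt ▸ S.ok.sr_lt i.isLt
      obtain ⟨-, hneg, -, -⟩ := he _ hs
      have hn := S.negLt hs
      have hx : ∀ r < D.nroots, ∀ u : K, θ' (pgen (D.steinbergRels K) r u) = S'.ok.xG (io.getD r 0) u := by
        intro r hr u
        rw [pgen, ChevalleyDatum.stX, dif_pos hr]
        exact PresentedGroup.toGroup.of _
      rw [ChevalleyDatum.stH, mk_stWord]
      simp only [ChevalleyDatum.hWord, ChevalleyDatum.nWord, List.cons_append, List.nil_append, List.map_cons,
        List.map_nil, List.prod_cons, List.prod_nil, mul_one, map_mul, hx _ hs, hx _ hn, Ok.hG, Ok.nG, hneg,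
        mul_assoc]
  refine Nat.card_congr (Equiv.ofBijective (fun x => ⟨P.torus h3 x.1, Subgroup.mem_map_of_mem _ x.2⟩) ⟨?_, ?_⟩).symm
  · intro a b hab
    have h1 : P.torus h3 (a.1 * b.1⁻¹) = 1 := by
      rw [map_mul, map_inv, show P.torus h3 a.1 = P.torus h3 b.1 from congrArg Subtype.val hab, mul_inv_cancel]
    have h2 : Ok.tG D K (a.1 * b.1⁻¹) = 1 := mul_mem a.2 (inv_mem b.2)
    have h4 : Ok.tG E K (extTorus K D.rank E.rank (a.1 * b.1⁻¹)) = 1 := by
      have := DFunLike.congr_fun hθ' (a.1 * b.1⁻¹)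
      rw [MonoidHom.comp_apply, MonoidHom.comp_apply, h1, map_one] at this
      exact this.symm
    obtain ⟨hk, hiff⟩ := torus_ker (F := K) S.ok ht
    obtain ⟨hz, hv⟩ := (hiff _).1 h2
    set c := a.1 * b.1⁻¹ with hc
    set z := c ⟨k, hk⟩ with hzdef
    have hlast : D.rank < E.rank := by omega
    have hsl : E.simple D.rank < E.nroots := S'.ok.sr_eq hlast ▸ S'.ok.sr_lt hlast
    have h5 := (tG_eq_one_iff _).1 h4 ⟨E.simple D.rank, hsl⟩
    have h6 : z ^ ((List.range D.rank).map fun i => v.getD i 0 * E.cartan i (E.simple D.rank)).sum = 1 := by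
      rw [range_sum, ← prod_zpow_sum, ← h5]
      rw [← (Fin.castOrderIso hrk.symm).toEquiv.prod_comp, Fin.prod_univ_castSucc]
      rw [show extTorus K D.rank E.rank c ((Fin.castOrderIso hrk.symm).toEquiv (Fin.last D.rank)) = 1 from
        dif_neg (by simp), one_zpow, mul_one]
      refine Finset.prod_congr rfl fun i _ => ?_
      rw [zpow_mul, ← hv i]
      congr 1
      exact (dif_pos (c := i.val < D.rank) (t := fun h => c ⟨i.val, h⟩) (e := fun _ => 1) i.isLt).symm
    simp only [okCol, decide_eq_true_eq] at hp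
    obtain ⟨q, hq⟩ := Int.dvd_of_emod_eq_zero hp
    have h7 : z = 1 := by
      rw [← zpow_one z, show (1 : ℤ) = ((List.range D.rank).map fun i => v.getD i 0 * E.cartan i (E.simple D.rank)).sum * p + (-q) * (d : ℤ) by linear_combination -hq, zpow_add, zpow_mul, h6,
        one_zpow, mul_comm (-q) (d : ℤ), zpow_mul, zpow_natCast, hz, one_zpow, one_mul]
    have : c = 1 := funext fun i => by rw [hv i, h7, one_zpow]; rfl
    exact Subtype.ext (mul_inv_eq_one.1 this)
  · rintro ⟨y, hy⟩
    obtain ⟨x, hx, rfl⟩ := Subgroup.mem_map.1 hy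
    exact ⟨⟨x, hx⟩, rfl⟩

end St

end Cfsg.Lib.Chev
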