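import Cfsg.Agent.Chev.St.Act

/-! The kernel of the map onto the Chevalley group is central and lies in the subgroup generated by the `h̄_i`; the
centre of the Chevalley group is trivial. -/

set_option autoImplicit false

open Cfsg.Lie

namespace Cfsg.Lib.Chev

variable {D : ChevalleyDatum} {C : Cert} {F : Type*} [Field F]

namespace Struct

theorem nL_mem_diag_of_pos (S : Struct D C) : ∀ (m : ℕ) (L : List (Fin D.rank)), L.length = m →
    (∀ r : Fin D.nroots, D.nroots / 2 ≤ r.val → D.nroots / 2 ≤ (S.wpL L r).val) →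
    S.nL F L ∈ D.diagonalSubgroup F := by
  intro m
  induction m using Nat.strong_induction_on with
  | _ m ih =>
    intro L hm hL
    rcases eq_or_ne L [] with rfl | hne
    · simp [nL, one_mem]
    obtain ⟨M, i, rfl⟩ : ∃ M i, L = M ++ [i] := ⟨L.dropLast, L.getLast hne, (List.dropLast_append_getLast hne).symm⟩
    have hw : S.wpL (M ++ [i]) = S.wpL M * S.wp i := by simp [wpL]
    have hp := S.ok.sr_lt i.isLt
    have hneg : (S.wpL M (S.sp i)).val < D.nroots / 2 := by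
      have h1 := hL (S.sp i) (S.sr_pos i.isLt)
      rw [hw, Equiv.Perm.mul_apply] at h1
      have e : S.wp i (S.sp i) = ⟨D.neg (C.sr i.val), S.negLt hp⟩ := Fin.ext (by
        rw [wp_val, show (S.sp i).val = C.sr i.val from rfl, (S.ok.refl_simple i.isLt).1, S.ok.neg_eq hp])
      rw [e] at h1
      have h1' : D.nroots / 2 ≤ D.neg (S.wpL M (S.sp i)).val := by
        rw [← S.wp_neg M (S.sp i) (S.negLt hp)]; exact h1
      clear h1
      have h3 : (S.sp i).val = C.sr i.val := rfl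
      have h4 := (S.order_row (S.wpL M ⟨C.sr i.val, hp⟩).isLt).1
      have h5 : D.negIdx.getD (S.wpL M ⟨C.sr i.val, hp⟩).val 0 = D.neg (S.wpL M ⟨C.sr i.val, hp⟩).val := rfl
      have h6 : S.sp i = ⟨C.sr i.val, hp⟩ := Fin.ext h3
      have h2 := S.hsum
      rw [h6] at h1' ⊢
      omega
    obtain ⟨M', h', hh', hlen, e⟩ := S.exchange (F := F) i M hneg
    have e' : S.nL F (M ++ [i]) = h' * S.nL F M' := by rw [← e]; simp [nL]
    have hperm : S.wpL M' = S.wpL (M ++ [i]) := by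
      have h1 := S.act_mul (S.act_diag hh') (S.act_nL (F := F) M')
      rw [← e', one_mul] at h1
      exact S.act_unique h1 (S.act_nL _)
    rw [e']
    refine mul_mem hh' (ih M'.length ?_ M' rfl (hperm ▸ hL))
    simp at hm
    omega

theorem center_group_eq_bot (S : Struct D C) (hN : okNeg D = true) {Lo : List ℕ} (hLo : C.okOpp Lo = true) :
    Subgroup.center ↥(D.group F) = ⊥ := by
  refine eq_bot_iff.2 fun z hz => ?_
  rw [Subgroup.mem_center_iff] at hz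
  obtain ⟨b, hb, n, hn, L, hact, u, hu, e⟩ := S.normal_form hN z.2
  have huU := S.UPsi_le _ hu
  have hcom : ∀ {g : GL D.Idx F}, g ∈ D.group F → g * (z : GL D.Idx F) = (z : GL D.Idx F) * g :=
    fun hg => congrArg Subtype.val (hz ⟨_, hg⟩)
  have hconjU : ∀ y ∈ D.posUnipotent F, n * y * n⁻¹ ∈ D.borelSubgroup F := by
    intro y hy
    have hy' : u⁻¹ * y * u ∈ D.posUnipotent F := mul_mem (mul_mem (inv_mem huU) hy) huU
    have h1 := hcom (S.borel_le_group (S.B_le_of hy'))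
    have h2 : n * y * n⁻¹ = b⁻¹ * ((u⁻¹ * y * u) * (b * n * u) * ((u⁻¹ * y * u)⁻¹)) * (u⁻¹ * y * u) *
        (u⁻¹ * n⁻¹ * b⁻¹) * b := by
      rw [← e, h1, e]
      group
    have h3 : n * y * n⁻¹ = b⁻¹ * (u⁻¹ * y * u) * b := by
      have h4 : (u⁻¹ * y * u) * (b * n * u) = b * n * y * u := by
        rw [← e, h1, e]; group
      calc n * y * n⁻¹ = b⁻¹ * (b * n * y * u) * (u⁻¹ * n⁻¹) := by group
        _ = _ := by rw [← h4]; group
    rw [h3]
    exact mul_mem (mul_mem (inv_mem hb) (S.B_le_of hy')) hb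
  have hpos : ∀ r : Fin D.nroots, D.nroots / 2 ≤ r.val → D.nroots / 2 ≤ (S.wpL L r).val := by
    intro r hr
    by_contra hlt
    obtain ⟨-, c, hc, ec⟩ := hact r
    have hmem := hconjU _ (S.xG_mem_U hr r.isLt 1)
    rw [(ec 1).1] at hmem
    have : S.ok.xG (S.wpL L r).val (c * 1) ∈ D.borelSubgroup F ⊓ D.negUnipotent F :=
      Subgroup.mem_inf.2 ⟨hmem, Subgroup.subset_closure ⟨_, _, S.isNeg_iff.2 (by omega), S.ok.val_xG _ _⟩⟩
    rw [S.B_inf_V hN, Subgroup.mem_bot] at this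
    exact hc (by simpa using S.xG_eq_one (S.wpL L r).isLt this)
  obtain ⟨L', hact', hiff⟩ := S.exists_act hn
  have hw : S.wpL L' = 1 := by
    rw [← S.act_unique hact hact']
    exact S.act_unique (S.act_nL (F := F) L) (S.act_diag (S.nL_mem_diag_of_pos _ L rfl hpos))
  have hzB : (z : GL D.Idx F) ∈ D.borelSubgroup F := by
    rw [e]
    exact mul_mem (mul_mem hb (Subgroup.mem_sup_right (hiff.1 hw))) (S.B_le_of huU)
  have hzc : Subgroup.zpowers z ≤ ((D.borelSubgroup F).subgroupOf (D.group F)).normalCore := by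
    rw [Subgroup.zpowers_le]
    intro g
    rw [Subgroup.mem_subgroupOf]
    rw [show g * z * g⁻¹ = z by rw [hz g, mul_inv_cancel_right]]
    exact hzB
  rw [S.normalCore_borel hN hLo] at hzc
  exact hzc (Subgroup.mem_zpowers z)

end Struct

namespace St.Pres

variable {G : Type*} [Group G] (P : St.Pres D C F G)
include P

/-- The subgroup generated by the `h̄_i(t)` and the `n̄_i`. -/
def Nb (P : St.Pres D C F G) : Subgroup G :=
  P.Hb ⊔ Subgroup.closure {g | ∃ i : Fin D.rank, g = P.nn (C.sr i.val) 1}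

theorem nn_mem_Nb (i : Fin D.rank) : P.nn (C.sr i.val) 1 ∈ P.Nb :=
  Subgroup.mem_sup_right (Subgroup.subset_closure ⟨i, rfl⟩)

theorem exists_word' {g : G} (hg : g ∈ P.Nb) : ∃ h ∈ P.Hb, ∃ L, g = h * P.nLb L := by
  rw [Nb, ← Subgroup.closure_eq P.Hb, ← Subgroup.closure_union] at hg
  induction hg using Subgroup.closure_induction_right with
  | one => exact ⟨1, one_mem _, [], by simp [nLb]⟩
  | mul_right x _ y hy ih =>
    obtain ⟨h', hh', L, rfl⟩ := ih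
    rcases hy with hy | ⟨i, rfl⟩
    · refine ⟨h' * (P.nLb L * y * (P.nLb L)⁻¹),
        mul_mem hh' ((Subgroup.mem_normalizer_iff.1 (P.nLb_normalises L) y).1 hy), L, ?_⟩
      group
    · exact ⟨h', hh', L ++ [i], by simp [nLb, mul_assoc]⟩
  | mul_inv_cancel x _ y hy ih =>
    obtain ⟨h', hh', L, rfl⟩ := ih
    rcases hy with hy | ⟨i, rfl⟩
    · refine ⟨h' * (P.nLb L * y⁻¹ * (P.nLb L)⁻¹),
        mul_mem hh' ((Subgroup.mem_normalizer_iff.1 (P.nLb_normalises L) _).1 (inv_mem hy)), L, ?_⟩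
      group
    · refine ⟨h' * (P.nLb L * (P.nn (C.sr i.val) 1 * P.nn (C.sr i.val) 1)⁻¹ * (P.nLb L)⁻¹),
        mul_mem hh' ((Subgroup.mem_normalizer_iff.1 (P.nLb_normalises L) _).1 (inv_mem (P.nn_sq_mem i.isLt))),
        L ++ [i], ?_⟩
      simp [nLb, mul_assoc]

theorem mon_Nb {g : G} (hg : g ∈ P.Nb) : ∃ w, P.Mon g w := by
  obtain ⟨h, hh, L, rfl⟩ := P.exists_word' hg
  exact ⟨_, P.mon_mul (P.mon_Hb hh) (P.mon_nLb L)⟩

/-- Products `u n v`. -/
def Om (P : St.Pres D C F G) : Set G :=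
  {g | ∃ u ∈ P.gen P.Pos, ∃ n ∈ P.Nb, ∃ v ∈ P.gen P.Pos, g = u * n * v}

theorem split_sr {i : ℕ} (hi : i < D.rank) {u : G} (hu : u ∈ P.gen P.Pos) :
    ∃ t, ∃ u' ∈ P.gen (P.Side i (C.sr i)), u = u' * P.x (C.sr i) t := by
  have hp := P.sr_lt hi
  let xh : Multiplicative F →* G :=
    { toFun := fun t => P.x (C.sr i) t.toAdd
      map_one' := P.x_zero hp
      map_mul' := fun s t => (P.hx _ hp s.toAdd t.toAdd).symm }
  have hn : xh.range ≤ Subgroup.normalizer (P.gen (P.Side i (C.sr i)) : Set G) := by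
    rintro _ ⟨t, rfl⟩
    rw [Subgroup.mem_normalizer_iff]
    intro z
    refine ⟨fun hz => P.side_conj hi (Or.inl rfl) t.toAdd hz, fun hz => ?_⟩
    have := P.side_conj hi (Or.inl rfl) (-t.toAdd) hz
    rw [← P.x_inv hp] at this
    simpa [xh, mul_assoc] using this
  have hle : P.gen P.Pos ≤ P.gen (P.Side i (C.sr i)) ⊔ xh.range := by
    refine (Subgroup.closure_le _).2 ?_
    rintro g ⟨r, ⟨hr1, hr2⟩, t, rfl⟩
    by_cases e : r = C.sr i
    · exact Subgroup.mem_sup_right ⟨Multiplicative.ofAdd t, by rw [e]; rfl⟩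
    · refine Subgroup.mem_sup_left (P.mem_gen ?_ t)
      refine ⟨hr2, iff_of_true hr1 (P.S.sr_pos hi), e, ?_⟩
      have h1 := P.half_add
      have h2 := P.S.sr_pos hi
      rw [P.neg_eq_rev hp]
      omega
  have h1 : u ∈ ((P.gen (P.Side i (C.sr i)) ⊔ xh.range : Subgroup G) : Set G) := hle hu
  rw [Subgroup.coe_mul_of_right_le_normalizer_left _ _ hn] at h1
  obtain ⟨u', hu', y, ⟨t, rfl⟩, rfl⟩ := Set.mem_mul.1 h1
  exact ⟨t.toAdd, u', hu', rfl⟩

theorem gen_side_le_pos {i : ℕ} (hi : i < D.rank) : P.gen (P.Side i (C.sr i)) ≤ P.gen P.Pos :=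
  P.gen_mono fun _ h => ⟨h.2.1.2 (P.S.sr_pos hi), h.1⟩

theorem nn_mul_Om (i : Fin D.rank) {g : G} (hg : g ∈ P.Om) : P.nn (C.sr i.val) 1 * g ∈ P.Om := by
  obtain ⟨u, hu, n, hn, v, hv, rfl⟩ := hg
  obtain ⟨t, u', hu', rfl⟩ := P.split_sr i.isLt hu
  set N := P.nn (C.sr i.val) 1 with hN
  have hp := P.sr_lt i.isLt
  have h1 : N * u' * N⁻¹ ∈ P.gen P.Pos :=
    P.gen_side_le_pos i.isLt (P.nn_side i.isLt 1 hu')
  suffices H : ∃ u2 ∈ P.gen P.Pos, ∃ n2 ∈ P.Nb, ∃ v2 ∈ P.gen P.Pos,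
      N * P.x (C.sr i.val) t * n * v = u2 * n2 * v2 by
    obtain ⟨u2, hu2, n2, hn2, v2, hv2, e⟩ := H
    refine ⟨(N * u' * N⁻¹) * u2, mul_mem h1 hu2, n2, hn2, v2, hv2, ?_⟩
    rw [show N * (u' * P.x (C.sr i.val) t * n * v) = (N * u' * N⁻¹) * (N * P.x (C.sr i.val) t * n * v) by group,
      e]
    group
  rcases eq_or_ne t 0 with rfl | ht
  · exact ⟨1, one_mem _, N * n, mul_mem (P.nn_mem_Nb i) hn, v, hv, by rw [P.x_zero hp]; group⟩
  obtain ⟨w, hw⟩ := P.mon_Nb hn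
  obtain ⟨c, hc, -⟩ := P.mon_inv hw
  simp only [inv_inv] at hc
  by_cases hpos : D.nroots / 2 ≤ (w⁻¹ ⟨C.sr i.val, hp⟩).val
  · refine ⟨1, one_mem _, N * n, mul_mem (P.nn_mem_Nb i) hn, (n⁻¹ * P.x (C.sr i.val) t * n) * v,
      mul_mem ?_ hv, by group⟩
    rw [hc ⟨C.sr i.val, hp⟩ t]
    exact P.mem_gen (show _ ∈ P.Pos from ⟨hpos, Fin.isLt _⟩) _
  · set η := (C.eta i.val (C.sr i.val) : F) with hη
    set a := -(η * t)⁻¹ with ha
    have hηt : η * t ≠ 0 := mul_ne_zero (Ok.eta_ne_zero C i.val _) ht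
    have ha0 : a ≠ 0 := neg_ne_zero.2 (inv_ne_zero hηt)
    -- `x_{-p}(s) = x_p(-a) n_p(a) x_p(-a)` with `s = -a⁻¹`
    have e1 : N * P.x (C.sr i.val) t * N⁻¹ = P.x (C.sr i.val) (-a) * P.nn (C.sr i.val) a * P.x (C.sr i.val) (-a) := by
      rw [hN, P.nconj i.isLt hp, (P.S.ok.refl_simple i.isLt).1, P.S.ok.neg_eq hp]
      have : η * t = -a⁻¹ := by rw [ha, inv_neg, inv_inv, _root_.neg_neg]
      rw [← hη, this, nn]
      rw [show P.x (C.sr i.val) (-a) * (P.x (C.sr i.val) a * P.x (D.neg (C.sr i.val)) (-a⁻¹) * P.x (C.sr i.val) a) *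
        P.x (C.sr i.val) (-a) = (P.x (C.sr i.val) (-a) * P.x (C.sr i.val) a) * P.x (D.neg (C.sr i.val)) (-a⁻¹) *
          (P.x (C.sr i.val) a * P.x (C.sr i.val) (-a)) by group,
        P.hx _ hp, P.hx _ hp, neg_add_cancel, add_neg_cancel, P.x_zero hp, one_mul, mul_one]
    have hnn : P.nn (C.sr i.val) a ∈ P.Nb := by
      rw [P.nn_eq_hh hp]
      exact mul_mem (Subgroup.mem_sup_left (P.hh_mem i.isLt ha0)) (P.nn_mem_Nb i)
    obtain ⟨c', hc', -⟩ := P.mon_inv (P.mon_mul (P.mon_nn i) hw)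
    simp only [inv_inv] at hc'
    refine ⟨P.x (C.sr i.val) (-a), P.mem_gen (show _ ∈ P.Pos from ⟨P.S.sr_pos i.isLt, hp⟩) _,
      P.nn (C.sr i.val) a * (N * n), mul_mem hnn (mul_mem (P.nn_mem_Nb i) hn),
      ((N * n)⁻¹ * P.x (C.sr i.val) (-a) * (N * n)) * v, mul_mem ?_ hv, ?_⟩
    · rw [hN, hc' ⟨C.sr i.val, hp⟩ (-a)]
      refine P.mem_gen (show _ ∈ P.Pos from ⟨?_, Fin.isLt _⟩) _
      rw [mul_inv_rev, Equiv.Perm.mul_apply, inv_eq_of_mul_eq_one_right (P.S.wp_mul_self i)]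
      have e3 : P.S.wp i ⟨C.sr i.val, hp⟩ = ⟨D.neg (C.sr i.val), P.neg_lt hp⟩ := Fin.ext (by
        rw [Struct.wp_val, (P.S.ok.refl_simple i.isLt).1, P.S.ok.neg_eq hp])
      rw [e3]
      obtain ⟨c2, -, hn2⟩ := P.mon_inv hw
      have h4 := (hn2 ⟨C.sr i.val, hp⟩ ⟨D.neg (C.sr i.val), P.neg_lt hp⟩ rfl).1
      rw [h4, P.neg_eq_rev (Fin.isLt _)]
      have := P.half_add
      omega
    · have e2 : N * P.x (C.sr i.val) t * n * v = (N * P.x (C.sr i.val) t * N⁻¹) * (N * n) * v := by group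
      rw [e2, e1]
      group

theorem Hb_mul_Om {h g : G} (hh : h ∈ P.Hb) (hg : g ∈ P.Om) : h * g ∈ P.Om := by
  obtain ⟨u, hu, n, hn, v, hv, rfl⟩ := hg
  refine ⟨h * u * h⁻¹, ?_, h * n, mul_mem (Subgroup.mem_sup_left hh) hn, v, hv, by group⟩
  obtain ⟨c, hc, -⟩ := P.mon_Hb hh
  have hle : P.gen P.Pos ≤ (P.gen P.Pos).comap (MulAut.conj h).toMonoidHom := by
    refine (Subgroup.closure_le _).2 ?_
    rintro x ⟨r, hr, t, rfl⟩
    show h * P.x r t * h⁻¹ ∈ P.gen P.Pos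
    rw [hc ⟨r, hr.2⟩ t]
    exact P.mem_gen hr _
  exact hle hu

theorem x_mul_Om : ∀ r < D.nroots, ∀ (t : F), ∀ g ∈ P.Om, P.x r t * g ∈ P.Om := by
  refine P.S.ok.root_induction (fun i hi => ?_) (fun i r hi hr ih t g hg => ?_)
  · have hp := P.sr_lt hi
    have hposcase : ∀ (t : F), ∀ g ∈ P.Om, P.x (C.sr i) t * g ∈ P.Om := by
      rintro t g ⟨u, hu, n, hn, v, hv, rfl⟩
      exact ⟨P.x (C.sr i) t * u, mul_mem (P.mem_gen (show C.sr i ∈ P.Pos from ⟨P.S.sr_pos hi, hp⟩) t) hu,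
        n, hn, v, hv, by group⟩
    refine ⟨hposcase, fun t g hg => ?_⟩
    have hw : C.w i (C.sr i) = C.neg (C.sr i) := (P.S.ok.refl_simple hi).1
    have e := P.nconj (s := C.sr i) hi hp ((C.eta i (C.sr i) : F) * t)
    rw [hw, ← mul_assoc, Ok.eta_sq, one_mul] at e
    rw [← e, P.nn_inv hp, P.nn_eq_hh hp (-1), mul_assoc, mul_assoc]
    refine P.nn_mul_Om ⟨i, hi⟩ (hposcase _ _ ?_)
    rw [mul_assoc]
    exact P.Hb_mul_Om (P.hh_mem hi (by simp)) (P.nn_mul_Om ⟨i, hi⟩ hg)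
  · have hs := P.S.ok.w_lt hi hr
    have hp := P.sr_lt hi
    have e := P.nconj (s := C.w i r) hi hs ((C.eta i (C.w i r) : F) * t)
    rw [P.S.ok.w_w hi hr, ← mul_assoc, Ok.eta_sq, one_mul] at e
    rw [← e, P.nn_inv hp, P.nn_eq_hh hp (-1), mul_assoc, mul_assoc]
    refine P.nn_mul_Om ⟨i, hi⟩ (ih _ _ ?_)
    rw [mul_assoc]
    exact P.Hb_mul_Om (P.hh_mem hi (by simp)) (P.nn_mul_Om ⟨i, hi⟩ hg)

theorem mem_Om (hgen : P.gen {r | r < D.nroots} = ⊤) (g : G) : g ∈ P.Om := by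
  have hg : g ∈ P.gen {r | r < D.nroots} := by rw [hgen]; trivial
  induction hg using Subgroup.closure_induction_left with
  | one => exact ⟨1, one_mem _, 1, one_mem _, 1, one_mem _, by simp⟩
  | mul_left x hx y _ ih =>
    obtain ⟨r, hr, t, rfl⟩ := hx
    exact P.x_mul_Om r hr t y ih
  | inv_mul_cancel x hx y _ ih =>
    obtain ⟨r, hr, t, rfl⟩ := hx
    rw [P.x_inv hr]
    exact P.x_mul_Om r hr _ y ih

theorem θ_gen_pos {u : G} (hu : u ∈ P.gen P.Pos) : P.θ u ∈ D.posUnipotent F := by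
  have : P.gen P.Pos ≤ (D.posUnipotent F).comap P.θ := by
    refine (Subgroup.closure_le _).2 ?_
    rintro x ⟨r, hr, t, rfl⟩
    show P.θ (P.x r t) ∈ D.posUnipotent F
    rw [P.hθ r hr.2]
    exact P.S.xG_mem_U hr.1 hr.2 t
  exact this hu

theorem θ_Hb {h : G} (hh : h ∈ P.Hb) : P.θ h ∈ D.diagonalSubgroup F := by
  have : P.Hb ≤ (D.diagonalSubgroup F).comap P.θ := by
    refine (Subgroup.closure_le _).2 ?_
    rintro x ⟨i, hi, t, ht, rfl⟩
    show P.θ (P.hh (C.sr i) t) ∈ D.diagonalSubgroup F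
    rw [P.θ_hh (P.sr_lt hi), P.sr_eq hi]
    exact P.S.hG_mem_diag hi ht
  exact this hh

theorem θ_Nb {n : G} (hn : n ∈ P.Nb) : P.θ n ∈ D.monomialSubgroup F := by
  have : P.Nb ≤ (D.monomialSubgroup F).comap P.θ := by
    refine sup_le (fun h hh => (le_sup_left : D.diagonalSubgroup F ≤ D.monomialSubgroup F) (P.θ_Hb hh)) ?_
    refine (Subgroup.closure_le _).2 ?_
    rintro x ⟨i, rfl⟩
    show P.θ (P.nn (C.sr i.val) 1) ∈ D.monomialSubgroup F
    rw [P.θ_nn (P.sr_lt i.isLt), P.sr_eq i.isLt]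
    exact P.S.nG_mem_mono i
  exact this hn

/-- Steinberg: the kernel is central and lies in the subgroup of the `h̄_i`. -/
theorem kernel (hgen : P.gen {r | r < D.nroots} = ⊤) {g : G} (hg : P.θ g = 1) :
    g ∈ P.Hb ∧ g ∈ Subgroup.center G := by
  obtain ⟨u, hu, n, hn, v, hv, rfl⟩ := P.mem_Om hgen g
  have hθn : P.θ n = 1 := by
    have h1 : P.θ n = (P.θ u)⁻¹ * (P.θ v)⁻¹ := by
      rw [map_mul, map_mul] at hg
      calc P.θ n = (P.θ u)⁻¹ * (P.θ u * P.θ n * P.θ v) * (P.θ v)⁻¹ := by group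
        _ = _ := by rw [hg, mul_one]
    have h2 : P.θ n ∈ D.posUnipotent F ⊓ D.monomialSubgroup F := by
      refine Subgroup.mem_inf.2 ⟨?_, P.θ_Nb hn⟩
      rw [h1]
      exact mul_mem (inv_mem (P.θ_gen_pos hu)) (inv_mem (P.θ_gen_pos hv))
    rw [P.S.U_inf_N] at h2
    exact h2
  obtain ⟨h, hh, L, rfl⟩ := P.exists_word' hn
  obtain ⟨c, hc, hn2⟩ := P.mon_mul (P.mon_Hb hh) (P.mon_nLb L)
  rw [one_mul] at hn2
  simp only [one_mul] at hc
  have key : ∀ r : Fin D.nroots, P.S.wpL L r = r ∧ c r = 1 := by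
    intro r
    have e := congrArg P.θ (hc r 1)
    rw [map_mul, map_mul, map_inv, hθn, inv_one, mul_one, one_mul, P.hθ _ r.isLt,
      P.hθ _ (P.S.wpL L r).isLt] at e
    have e1 := congrArg (P.S.coef (P.S.wpL L r)) e
    rw [P.S.coef_xG _ r.isLt, P.S.coef_xG _ (P.S.wpL L r).isLt, if_pos rfl, mul_one] at e1
    by_cases hr : r.val = (P.S.wpL L r).val
    · rw [if_pos hr] at e1
      exact ⟨(Fin.ext hr).symm, e1.symm⟩
    · rw [if_neg hr] at e1
      have h2 := (hn2 r ⟨D.neg r.val, P.neg_lt r.isLt⟩ rfl).2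
      rw [← e1, zero_mul] at h2
      exact absurd h2 zero_ne_one
  have hw1 : P.S.wpL L = 1 := Equiv.ext fun r => (key r).1
  have hH : h * P.nLb L ∈ P.Hb := mul_mem hh (P.nLb_mem _ L rfl hw1)
  set n := h * P.nLb L with hndef
  have hcent : n ∈ Subgroup.center G := by
    rw [Subgroup.mem_center_iff]
    intro y
    have hy : y ∈ P.gen {r | r < D.nroots} := by rw [hgen]; trivial
    have : P.gen {r | r < D.nroots} ≤ Subgroup.centralizer {n} := by
      refine (Subgroup.closure_le _).2 ?_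
      rintro x ⟨r, hr, t, rfl⟩
      rw [SetLike.mem_coe, Subgroup.mem_centralizer_singleton_iff]
      have e := hc ⟨r, hr⟩ t
      rw [(key ⟨r, hr⟩).1, (key ⟨r, hr⟩).2, one_mul, mul_inv_eq_iff_eq_mul] at e
      exact e.symm
    exact (Subgroup.mem_centralizer_singleton_iff.1 (this hy))
  have huv : u * v = 1 := P.inj_pos (mul_mem hu hv) (by
    rw [map_mul]
    rw [map_mul, map_mul, hθn, mul_one] at hg
    exact hg)
  have e : u * n * v = n := by
    rw [show u * n = n * u from (Subgroup.mem_center_iff.1 hcent u), mul_assoc, huv, mul_one]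
  rw [e]
  exact ⟨hH, hcent⟩

end St.Pres

end Cfsg.Lib.Chev
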