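import Cfsg.Agent.Chev.St.Data
import Cfsg.Agent.Chev.Tw.Height

/-! Groups with generators satisfying Steinberg's relations (R1), (R2): action of the elements `n̄_i`, `h̄_i` on the
generators, and normal forms of the positive and negative unipotent parts. -/

set_option autoImplicit false

open Cfsg.Lie

namespace Cfsg.Lib.Chev

namespace St

/-- Generators satisfying (R1) and (R2) in a group mapping onto root elements. -/
structure Pres (D : ChevalleyDatum) (C : Cert) (F : Type*) [Field F] (G : Type*) [Group G] where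
  /-- the verified datum -/
  S : Struct D C
  hN : okNeg D = true
  ok : ∃ W, okSt D C W = true
  /-- the generators -/
  x : ℕ → F → G
  hx : ∀ r < D.nroots, ∀ t u, x r t * x r u = x r (t + u)
  hc : ∀ r < D.nroots, ∀ s < D.nroots, s ≠ r → s ≠ D.neg r → ∀ t u,
    (x s u)⁻¹ * (x r t)⁻¹ * x s u * x r t = ((D.commWord F r s t u).map fun p => x p.1 p.2).prod
  /-- the map to the Chevalley group -/
  θ : G →* GL D.Idx F
  hθ : ∀ r < D.nroots, ∀ t, θ (x r t) = S.ok.xG r t

variable {D : ChevalleyDatum} {C : Cert} {F : Type*} [Field F] {G : Type*} [Group G]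

namespace Pres

variable (P : Pres D C F G)
include P

theorem parts : (negG D.rank D.nroots).okAut C = true ∧ okRev D = true ∧ okNN D = true ∧
    ∀ i < D.rank, ((okShort D && okSideRow D C i) || okSide D C i) = true ∧
      (∃ W, okWit D C W i = true) ∧ okAdj D C i = true := by
  obtain ⟨W, h⟩ := P.ok
  simp only [okSt, Bool.and_eq_true] at h
  obtain ⟨⟨⟨h1, h2⟩, h3⟩, h4⟩ := h
  refine ⟨h1, h2, h3, fun i hi => ?_⟩
  have := kall_krange h4 i hi
  simp only [Bool.and_eq_true] at this
  exact ⟨this.1.1, ⟨W, this.1.2⟩, this.2⟩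

theorem neg_eq_rev {r : ℕ} (hr : r < D.nroots) : D.neg r = D.nroots - 1 - r :=
  Nat.eq_of_beq_eq_true (kall_krange P.parts.2.1 r hr)

theorem neg_lt {r : ℕ} (hr : r < D.nroots) : D.neg r < D.nroots := by rw [P.neg_eq_rev hr]; omega

theorem sr_lt {i : ℕ} (hi : i < D.rank) : C.sr i < D.nroots := P.S.ok.sr_lt hi

theorem x_zero {r : ℕ} (hr : r < D.nroots) : P.x r 0 = 1 := by
  have := P.hx r hr 0 0
  rw [add_zero] at this
  exact mul_eq_left.1 this

theorem x_inv {r : ℕ} (hr : r < D.nroots) (t : F) : (P.x r t)⁻¹ = P.x r (-t) := by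
  rw [inv_eq_iff_mul_eq_one, P.hx r hr, add_neg_cancel, P.x_zero hr]

/-- The product of a word. -/
def wd (P : Pres D C F G) (w : List (ℕ × F)) : G := (w.map fun p => P.x p.1 p.2).prod

theorem conj_x {r s : ℕ} (hr : r < D.nroots) (hs : s < D.nroots) (h1 : s ≠ r) (h2 : s ≠ D.neg r) (t u : F) :
    P.x r t * P.x s u * (P.x r t)⁻¹ = P.x s u * P.wd (D.commWord F r s (-t) u) := by
  rw [wd, ← P.hc r hr s hs h1 h2, P.x_inv hr t, P.x_inv hr (-t), neg_neg]
  group

theorem θ_wd {w : List (ℕ × F)} (hw : ∀ p ∈ w, p.1 < D.nroots) : P.θ (P.wd w) = P.S.ok.wG w := by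
  rw [wd, map_list_prod, List.map_map, Ok.wG]
  exact congrArg List.prod (List.map_congr_left fun p hp => P.hθ _ (hw p hp) _)

theorem x_inj {r : ℕ} (hr : r < D.nroots) {t u : F} (h : P.S.ok.xG r t = P.S.ok.xG r u) : t = u := by
  refine sub_eq_zero.1 (P.S.xG_eq_one hr ?_)
  rw [sub_eq_add_neg, ← P.S.ok.xG_mul, h, ← P.S.ok.xG_inv, mul_inv_cancel]

/-- The subgroup generated by the generators of a set of roots. -/
def gen (P : Pres D C F G) (A : Set ℕ) : Subgroup G :=
  Subgroup.closure {g | ∃ r ∈ A, ∃ t, g = P.x r t}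

theorem mem_gen {A : Set ℕ} {r : ℕ} (hr : r ∈ A) (t : F) : P.x r t ∈ P.gen A :=
  Subgroup.subset_closure ⟨r, hr, t, rfl⟩

theorem gen_mono {A B : Set ℕ} (h : A ⊆ B) : P.gen A ≤ P.gen B := by
  refine (Subgroup.closure_le _).2 ?_
  rintro g ⟨r, hr, t, rfl⟩
  exact P.mem_gen (h hr) t

theorem wd_mem {A : Set ℕ} {w : List (ℕ × F)} (h : ∀ p ∈ w, p.1 ∈ A) : P.wd w ∈ P.gen A := by
  refine list_prod_mem fun g hg => ?_
  obtain ⟨p, hp, rfl⟩ := List.mem_map.1 hg
  exact P.mem_gen (h p hp) _

theorem commWord_idx {r s : ℕ} (t u : F) {p : ℕ × F} (hp : p ∈ D.commWord F r s t u) :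
    ∃ q ∈ D.commTerms r s, q.1 = p.1 := by
  simp only [ChevalleyDatum.commWord, List.mem_map] at hp
  obtain ⟨q, hq, rfl⟩ := hp
  exact ⟨q, hq, rfl⟩

/-- Ordered products exhaust a unipotent part. -/
theorem exists_prod : ∀ (L : List ℕ), L.Nodup → (∀ r ∈ L, r < D.nroots) →
    (∀ (A : List ℕ) (a : ℕ) (M : List ℕ), L = A ++ a :: M → ∀ b ∈ M, b ≠ D.neg a ∧
      ∀ q ∈ D.commTerms a b, q.1 ∈ M) →
    ∀ g ∈ P.gen {r | r ∈ L}, ∃ t : ℕ → F, g = (L.map fun r => P.x r (t r)).prod := by
  intro L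
  induction L with
  | nil =>
    intro _ _ _ g hg
    have : P.gen {r | r ∈ ([] : List ℕ)} = ⊥ := eq_bot_iff.2 ((Subgroup.closure_le _).2 (by
      rintro x ⟨r, hr, -⟩; simp at hr))
    rw [this, Subgroup.mem_bot] at hg
    exact ⟨0, by simp [hg]⟩
  | cons a M ih =>
    intro hnd hlt hcl g hg
    have ha : a < D.nroots := hlt a List.mem_cons_self
    rw [List.nodup_cons] at hnd
    have hM : ∀ r ∈ M, r < D.nroots := fun r hr => hlt r (List.mem_cons_of_mem _ hr)
    let xh : Multiplicative F →* G :=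
      { toFun := fun t => P.x a t.toAdd
        map_one' := P.x_zero ha
        map_mul' := fun s t => (P.hx a ha s.toAdd t.toAdd).symm }
    have hconj : ∀ t : F, ∀ g ∈ P.gen {r | r ∈ M}, P.x a t * g * (P.x a t)⁻¹ ∈ P.gen {r | r ∈ M} := by
      intro t g hg
      induction hg using Subgroup.closure_induction with
      | mem g hg =>
        obtain ⟨b, hb, u, rfl⟩ := hg
        have hba : b ≠ a := fun e => hnd.1 (e ▸ hb)
        obtain ⟨h1, h2⟩ := hcl [] a M rfl b hb
        rw [P.conj_x ha (hM b hb) hba h1]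
        refine mul_mem (P.mem_gen hb u) (P.wd_mem fun p hp => ?_)
        obtain ⟨q, hq, e⟩ := P.commWord_idx _ _ hp
        exact e ▸ h2 q hq
      | one => simp [one_mem]
      | mul x y _ _ ihx ihy =>
        rw [show P.x a t * (x * y) * (P.x a t)⁻¹ =
          (P.x a t * x * (P.x a t)⁻¹) * (P.x a t * y * (P.x a t)⁻¹) by group]
        exact mul_mem ihx ihy
      | inv x _ ihx =>
        rw [show P.x a t * x⁻¹ * (P.x a t)⁻¹ = (P.x a t * x * (P.x a t)⁻¹)⁻¹ by group]
        exact inv_mem ihx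
    have hn : xh.range ≤ Subgroup.normalizer (P.gen {r | r ∈ M} : Set G) := by
      rintro _ ⟨t, rfl⟩
      rw [Subgroup.mem_normalizer_iff]
      intro z
      refine ⟨hconj t.toAdd z, fun hz => ?_⟩
      have := hconj (-t.toAdd) _ hz
      rw [← P.x_inv ha] at this
      simpa [xh, mul_assoc] using this
    have hle : P.gen {r | r ∈ a :: M} ≤ xh.range ⊔ P.gen {r | r ∈ M} := by
      refine (Subgroup.closure_le _).2 ?_
      rintro z ⟨r, hr, t, rfl⟩
      rcases List.mem_cons.1 hr with rfl | hr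
      · exact Subgroup.mem_sup_left ⟨Multiplicative.ofAdd t, rfl⟩
      · exact Subgroup.mem_sup_right (P.mem_gen hr t)
    have hset : g ∈ ((xh.range ⊔ P.gen {r | r ∈ M} : Subgroup G) : Set G) := hle hg
    rw [Subgroup.coe_mul_of_left_le_normalizer_right _ _ hn] at hset
    obtain ⟨y, ⟨t, rfl⟩, v, hv, rfl⟩ := Set.mem_mul.1 hset
    obtain ⟨f, hf⟩ := ih hnd.2 hM (fun A b N e => hcl (a :: A) b N (by rw [e]; rfl)) v hv
    refine ⟨Function.update f a t.toAdd, ?_⟩
    rw [List.map_cons, List.prod_cons, Function.update_self, hf]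
    congr 2
    refine List.map_congr_left fun r hr => ?_
    rw [Function.update_of_ne (show r ≠ a from fun e => hnd.1 (e ▸ hr))]

theorem chain_entry {a b j v : ℕ} (hv : D.chainRoot a b j = some v) :
    ∃ e ∈ (D.chain.getD a #[]).toList, e.1 = b ∧ ∃ q ∈ e.2.toList, q.1 = v ∧ j - 1 < e.2.toList.length := by
  rw [ChevalleyDatum.chainRoot, chainEntry_eq] at hv
  cases hf : (D.chain.getD a #[]).toList.find? (fun e => e.1 = b) with
  | none => rw [hf] at hv; exact absurd hv (by simp)
  | some e =>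
    have heb : e.1 = b := by simpa using List.find?_some hf
    simp only [hf, Option.toList_some, List.flatMap_cons, List.flatMap_nil, List.append_nil] at hv
    cases hq : e.2.toList[j - 1]? with
    | none => simp [hq] at hv
    | some q =>
      simp only [hq, Option.map_some, Option.some.injEq] at hv
      obtain ⟨hl, -⟩ := List.getElem?_eq_some_iff.1 hq
      exact ⟨e, List.mem_of_find?_eq_some hf, heb, q, List.mem_of_getElem? hq, hv, hl⟩

theorem terms_neg {r s : ℕ} (hr : r < D.nroots / 2) (hs : s < D.nroots / 2)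
    {q : ℕ × ℤ × ℕ × ℕ} (hq : q ∈ D.commTerms r s) : q.1 < r ∧ q.1 < s := by
  simp only [ChevalleyDatum.commTerms, List.mem_filterMap] at hq
  obtain ⟨c, hc', he⟩ := hq
  simp only [Option.map_eq_some_iff] at he
  obtain ⟨k, hk, rfl⟩ := he
  have key : ∀ {a b j v : ℕ}, a < D.nroots / 2 → b < D.nroots / 2 → D.chainRoot a b j = some v →
      v < a ∧ v < b := by
    intro a b j v ha hb hv
    obtain ⟨e, he, heb, q, hq, hqv, -⟩ := P.chain_entry hv
    have h2 := kall_krange P.parts.2.2.1 a ha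
    rw [kall_iff] at h2
    have h3 := h2 e he
    simp only [Bool.or_eq_true, Nat.ble_eq, kall_iff, Bool.and_eq_true, blt_true] at h3
    rcases h3 with h3 | h3
    · exact absurd (show D.nroots / 2 ≤ e.1 from h3) (by omega)
    · exact ⟨hqv ▸ (h3 q hq).1, by rw [← hqv, ← heb]; exact (h3 q hq).2⟩
  simp only [List.mem_cons, List.not_mem_nil, or_false] at hc'
  rcases hc' with rfl | rfl | rfl | rfl | rfl | rfl | rfl
  · exact key hr hs hk
  · exact key hr hs hk
  · exact (key hs hr hk).symm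
  · exact key hr hs hk
  · exact (key hs hr hk).symm
  · obtain ⟨k', h1, h2⟩ := Option.bind_eq_some_iff.1 hk
    obtain ⟨a, b⟩ := key hr hs h1
    obtain ⟨a', b'⟩ := key (show k' < D.nroots / 2 by omega) hs h2
    exact ⟨show k < r by omega, b'⟩
  · obtain ⟨k', h1, h2⟩ := Option.bind_eq_some_iff.1 hk
    obtain ⟨a, b⟩ := key hs hr h1
    obtain ⟨a', b'⟩ := key (show k' < D.nroots / 2 by omega) hr h2
    exact ⟨b', show k < s by omega⟩

theorem terms_side {i a b : ℕ} (hi : i < D.rank) (ha : a = C.sr i ∨ a = D.neg (C.sr i))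
    (hb : b < D.nroots) (h1 : b ≠ C.sr i) (h2 : b ≠ D.neg (C.sr i))
    {q : ℕ × ℤ × ℕ × ℕ} (hq : q ∈ D.commTerms a b) :
    (D.nroots / 2 ≤ q.1 ↔ D.nroots / 2 ≤ b) ∧ q.1 ≠ C.sr i ∧ q.1 ≠ D.neg (C.sr i) := by
  have hp : C.sr i < D.nroots := P.sr_lt hi
  have hm : Nat.sub (Nat.sub D.nroots 1) (C.sr i) = D.neg (C.sr i) := (P.neg_eq_rev hp).symm
  have conv : ∀ v : ℕ, keeps (D.nroots / 2) (C.sr i) (D.neg (C.sr i)) b v = true →
      (D.nroots / 2 ≤ v ↔ D.nroots / 2 ≤ b) ∧ v ≠ C.sr i ∧ v ≠ D.neg (C.sr i) := by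
    intro v hv
    simp only [keeps, Bool.and_eq_true, Bool.not_eq_true', beq_iff_eq] at hv
    obtain ⟨⟨e1, e2⟩, e3⟩ := hv
    exact ⟨by rw [← Nat.ble_eq, ← Nat.ble_eq, e1], Nat.ne_of_beq_eq_false e2, Nat.ne_of_beq_eq_false e3⟩
  rcases (Bool.or_eq_true _ _).mp (P.parts.2.2.2 i hi).1 with h | h
  · rw [Bool.and_eq_true] at h
    obtain ⟨hshort, hrow⟩ := h
    have ha' : a < D.nroots := by rcases ha with rfl | rfl; exacts [hp, P.neg_lt hp]
    have no3 : ∀ {x y : ℕ}, x < D.nroots → ∀ v, D.chainRoot x y 3 ≠ some v := by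
      intro x y hx v hv
      obtain ⟨e, he, -, q, -, -, hl⟩ := P.chain_entry hv
      have h3 := kall_krange hshort x hx
      rw [kall_iff] at h3
      have := blt_true.1 (h3 e he)
      omega
    have key : ∀ {j v : ℕ}, (D.chainRoot a b j = some v ∨ D.chainRoot b a j = some v) →
        keeps (D.nroots / 2) (C.sr i) (D.neg (C.sr i)) b v = true := by
      intro j v hv
      have hpm : ∀ x, x = C.sr i ∨ x = D.neg (C.sr i) → (Nat.beq x (C.sr i) || Nat.beq x (D.neg (C.sr i))) = true := by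
        rintro x (rfl | rfl) <;> simp
      have hnp : (Nat.beq b (C.sr i) || Nat.beq b (D.neg (C.sr i))) = false := by
        rw [Bool.or_eq_false_iff]
        exact ⟨Bool.eq_false_iff.2 fun h => h1 (Nat.eq_of_beq_eq_true h),
          Bool.eq_false_iff.2 fun h => h2 (Nat.eq_of_beq_eq_true h)⟩
      rcases hv with hv | hv
      · obtain ⟨e, he, heb, q, hq, hqv, -⟩ := P.chain_entry hv
        have h3 := kall_krange hrow a ha'
        rw [kall_iff] at h3
        have h4 := h3 e he
        simp only [hm, Bool.and_eq_true] at h4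
        rw [hpm a ha, heb, hnp] at h4
        simp only [Bool.not_true, Bool.false_or, kall_iff] at h4
        rw [← hqv]
        exact h4.1 q hq
      · obtain ⟨e, he, heb, q, hq, hqv, -⟩ := P.chain_entry hv
        have h3 := kall_krange hrow b hb
        rw [kall_iff] at h3
        have h4 := h3 e he
        simp only [hm, Bool.and_eq_true] at h4
        rw [heb, hpm a ha, hnp] at h4
        simp only [Bool.not_true, Bool.false_or, kall_iff] at h4
        rw [← hqv]
        exact h4.2 q hq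
    simp only [ChevalleyDatum.commTerms, List.mem_filterMap] at hq
    obtain ⟨c, hc', he⟩ := hq
    simp only [Option.map_eq_some_iff] at he
    obtain ⟨k, hk, rfl⟩ := he
    refine conv _ ?_
    simp only [List.mem_cons, List.not_mem_nil, or_false] at hc'
    rcases hc' with rfl | rfl | rfl | rfl | rfl | rfl | rfl
    · exact key (Or.inl hk)
    · exact key (Or.inl hk)
    · exact key (Or.inr hk)
    · exact absurd hk (no3 ha' k)
    · exact absurd hk (no3 hb k)
    · obtain ⟨k', h3, -⟩ := Option.bind_eq_some_iff.1 hk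
      exact absurd h3 (no3 ha' k')
    · obtain ⟨k', h3, -⟩ := Option.bind_eq_some_iff.1 hk
      exact absurd h3 (no3 hb k')
  · have h3 := kall_krange h b hb
    simp only [hm, Bool.or_eq_true, Bool.and_eq_true, kall_iff] at h3
    rcases h3 with (h3 | h3) | h3
    · exact absurd (Nat.eq_of_beq_eq_true h3) h1
    · exact absurd (Nat.eq_of_beq_eq_true h3) h2
    · refine conv _ ?_
      simp only [keeps, Bool.and_eq_true]
      rcases ha with rfl | rfl
      exacts [h3.1 q hq, h3.2 q hq]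

theorem half_add : D.nroots / 2 + D.nroots / 2 = D.nroots := P.S.hsum

/-- Positive roots. -/
def Pos (P : Pres D C F G) : Set ℕ := {r | D.nroots / 2 ≤ r ∧ r < D.nroots}

/-- Negative roots. -/
def Neg' (P : Pres D C F G) : Set ℕ := {r | r < D.nroots / 2}

theorem inj_pos {g : G} (hg : g ∈ P.gen P.Pos) (h1 : P.θ g = 1) : g = 1 := by
  have hs := P.half_add
  set h := D.nroots / 2 with hh
  have hset : P.Pos = {r | r ∈ List.range' h (D.nroots - h)} := by
    ext r; simp [Pos, List.mem_range'_1, ← hh]; omega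
  rw [hset] at hg
  obtain ⟨t, rfl⟩ := P.exists_prod _ (List.nodup_range' ..) (fun r hr => by
      rw [List.mem_range'_1] at hr; omega) (fun A a M e b hb => by
    have hp := List.pairwise_lt_range' (s := h) (n := D.nroots - h) (step := 1) (by omega)
    rw [e] at hp
    have hab : a < b := List.rel_of_pairwise_cons (List.pairwise_append.1 hp).2.1 hb
    have ha : a ∈ List.range' h (D.nroots - h) := by rw [e]; simp
    have hb' : b ∈ List.range' h (D.nroots - h) := by rw [e]; simp [hb]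
    rw [List.mem_range'_1] at ha hb'
    refine ⟨?_, fun q hq => ?_⟩
    · rw [P.neg_eq_rev (by omega)]; omega
    · obtain ⟨q1, q2, q3⟩ := P.S.commTerms_gt (r := a) (s := b) (by omega) (by omega) (by omega) (by omega) hq
      have : q.1 ∈ List.range' h (D.nroots - h) := by rw [List.mem_range'_1]; omega
      rw [e, List.mem_append, List.mem_cons] at this
      rcases this with hA | rfl | hM
      · have := (List.pairwise_append.1 hp).2.2 q.1 hA a List.mem_cons_self
        omega
      · omega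
      · exact hM) g hg
  rw [map_list_prod, List.map_map] at h1
  have e : ((List.range' h (D.nroots - h)).map (P.θ ∘ fun r => P.x r (t r))).prod = P.S.pw h t := by
    rw [Struct.pw]
    refine congrArg List.prod (List.map_congr_left fun r hr => ?_)
    rw [List.mem_range'_1] at hr
    exact P.hθ r (by omega) _
  have e0 : P.S.pw h (0 : ℕ → F) = 1 := by simp [Struct.pw]
  rw [e, ← e0] at h1
  have ht := P.S.pw_inj (D.nroots - h) h (by omega) le_rfl t 0 h1
  refine List.prod_eq_one fun z hz => ?_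
  obtain ⟨r, hr, rfl⟩ := List.mem_map.1 hz
  rw [List.mem_range'_1] at hr
  rw [ht r hr.1 (by omega), Pi.zero_apply, P.x_zero (by omega)]

theorem rho_negG {r : ℕ} (hr : r < D.nroots) :
    (negG D.rank D.nroots).rho D.rank r = D.nroots - 1 - r ∧ (negG D.rank D.nroots).eps D.rank r = -1 := by
  constructor
  · simp only [GTab.rho, GTab.img, negG, kapp_eq, kmap_eq, krange_eq, Nat.add_eq, Nat.sub_eq]
    rw [List.getD_append_right _ _ _ _ (by simp)]
    rw [List.getD_eq_getElem _ _ (by simp; omega)]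
    simp
    omega
  · simp only [GTab.eps, GTab.sg, negG, kmap_eq, krange_eq, Nat.add_eq]
    rw [List.getD_eq_getElem _ _ (by simp; omega)]
    simp

theorem inj_neg {g : G} (hg : g ∈ P.gen P.Neg') (h1 : P.θ g = 1) : g = 1 := by
  have hs := P.half_add
  set h := D.nroots / 2 with hh
  have hset : P.Neg' = {r | r ∈ (List.range h).reverse} := by
    ext r; simp [Neg', ← hh]
  rw [hset] at hg
  obtain ⟨t, rfl⟩ := P.exists_prod _ ((List.reverse_perm _).nodup_iff.2 List.nodup_range) (fun r hr => by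
      simp at hr; omega) (fun A a M e b hb => by
    have hp : (List.range h).reverse.Pairwise (fun x y => y < x) := List.pairwise_reverse.2 List.pairwise_lt_range
    rw [e] at hp
    have hab : b < a := List.rel_of_pairwise_cons (List.pairwise_append.1 hp).2.1 hb
    have ha : a ∈ (List.range h).reverse := by rw [e]; simp
    have hb' : b ∈ (List.range h).reverse := by rw [e]; simp [hb]
    simp only [List.mem_reverse, List.mem_range] at ha hb'
    refine ⟨?_, fun q hq => ?_⟩
    · rw [P.neg_eq_rev (by omega)]; omega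
    · have q1 := (P.terms_neg (r := a) (s := b) ha hb' hq).1
      have : q.1 ∈ (List.range h).reverse := by simp; omega
      rw [e, List.mem_append, List.mem_cons] at this
      rcases this with hA | rfl | hM
      · have := (List.pairwise_append.1 hp).2.2 q.1 hA a List.mem_cons_self
        omega
      · omega
      · exact hM) g hg
  have hG := P.parts.1
  have h2 := congrArg (GTab.glHom P.S.ok hG) h1
  rw [map_one, map_list_prod, List.map_map, map_list_prod, List.map_map] at h2
  have e : ((List.range h).reverse.map (GTab.glHom P.S.ok hG ∘ P.θ ∘ fun r => P.x r (t r))).prod =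
      P.S.pw h (fun s => -t (D.nroots - 1 - s)) := by
    have e2 : List.range' h (D.nroots - h) = (List.range h).reverse.map (fun r => D.nroots - 1 - r) := by
      apply List.ext_getElem (by simp; omega)
      intro n hn1 hn2
      simp at hn1
      simp
      omega
    rw [Struct.pw, e2, List.map_map]
    refine congrArg List.prod (List.map_congr_left fun r hr => ?_)
    simp at hr
    simp only [Function.comp_apply]
    rw [P.hθ r (by omega), GTab.glHom_xG P.S.ok hG (by omega), (P.rho_negG (by omega)).1,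
      (P.rho_negG (by omega)).2, show D.nroots - 1 - (D.nroots - 1 - r) = r by omega]
    simp
  have e0 : P.S.pw h (0 : ℕ → F) = 1 := by simp [Struct.pw]
  rw [e, ← e0] at h2
  have ht := P.S.pw_inj (D.nroots - h) h (by omega) le_rfl _ 0 h2
  refine List.prod_eq_one fun z hz => ?_
  obtain ⟨r, hr, rfl⟩ := List.mem_map.1 hz
  simp at hr
  have := ht (D.nroots - 1 - r) (by omega) (by omega)
  rw [show D.nroots - 1 - (D.nroots - 1 - r) = r by omega, Pi.zero_apply, neg_eq_zero] at this
  rw [this, P.x_zero (by omega)]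

/-- The roots on the side of `s`, except `±p`. -/
def Side (P : Pres D C F G) (i s : ℕ) : Set ℕ :=
  {r | r < D.nroots ∧ (D.nroots / 2 ≤ r ↔ D.nroots / 2 ≤ s) ∧ r ≠ C.sr i ∧ r ≠ D.neg (C.sr i)}

theorem inj_side {i s : ℕ} {g g' : G} (hg : g ∈ P.gen (P.Side i s)) (hg' : g' ∈ P.gen (P.Side i s))
    (h : P.θ g = P.θ g') : g = g' := by
  have h1 : P.θ (g * g'⁻¹) = 1 := by rw [map_mul, map_inv, h, mul_inv_cancel]
  refine mul_inv_eq_one.1 ?_
  have hm := mul_mem hg (inv_mem hg')
  by_cases hp : D.nroots / 2 ≤ s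
  · exact P.inj_pos (P.gen_mono (A := P.Side i s) (fun r ⟨a, b, _⟩ => show D.nroots / 2 ≤ r ∧ r < D.nroots from ⟨b.2 hp, a⟩) hm) h1
  · exact P.inj_neg (P.gen_mono (A := P.Side i s) (fun r ⟨_, b, _⟩ => by
      show r < D.nroots / 2
      by_contra hh; exact hp (b.1 (by omega))) hm) h1

theorem side_conj {i s : ℕ} (hi : i < D.rank) {a : ℕ} (ha : a = C.sr i ∨ a = D.neg (C.sr i)) (t : F) {g : G}
    (hg : g ∈ P.gen (P.Side i s)) : P.x a t * g * (P.x a t)⁻¹ ∈ P.gen (P.Side i s) := by
  have hp := P.sr_lt hi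
  have ha' : a < D.nroots := by rcases ha with rfl | rfl; exacts [hp, P.neg_lt hp]
  induction hg using Subgroup.closure_induction with
  | mem g hg =>
    obtain ⟨b, ⟨hb1, hb2, hb3, hb4⟩, u, rfl⟩ := hg
    have hnn : D.neg (D.neg (C.sr i)) = C.sr i := by
      rw [P.neg_eq_rev (P.neg_lt hp), P.neg_eq_rev hp]; omega
    have h1 : b ≠ a := by rcases ha with rfl | rfl; exacts [hb3, hb4]
    have h2 : b ≠ D.neg a := by
      rcases ha with rfl | rfl
      · exact hb4
      · rw [hnn]; exact hb3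
    rw [P.conj_x ha' hb1 h1 h2]
    refine mul_mem (P.mem_gen (show b ∈ P.Side i s from ⟨hb1, hb2, hb3, hb4⟩) u) (P.wd_mem fun p hp' => ?_)
    obtain ⟨q, hq, e⟩ := P.commWord_idx _ _ hp'
    have hq' : q.1 < D.nroots := Ok.commTerms_lt P.S.chain ha' hb1 hq
    obtain ⟨c1, c2, c3⟩ := P.terms_side hi ha hb1 hb3 hb4 hq
    exact e ▸ ⟨hq', c1.trans hb2, c2, c3⟩
  | one => simp [one_mem]
  | mul x y _ _ ihx ihy =>
    rw [show P.x a t * (x * y) * (P.x a t)⁻¹ =
      (P.x a t * x * (P.x a t)⁻¹) * (P.x a t * y * (P.x a t)⁻¹) by group]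
    exact mul_mem ihx ihy
  | inv x _ ihx =>
    rw [show P.x a t * x⁻¹ * (P.x a t)⁻¹ = (P.x a t * x * (P.x a t)⁻¹)⁻¹ by group]
    exact inv_mem ihx

/-- `n̄_r(t)`. -/
noncomputable def nn (P : Pres D C F G) (r : ℕ) (t : F) : G :=
  P.x r t * P.x (D.neg r) (-t⁻¹) * P.x r t

/-- `h̄_r(t)`. -/
noncomputable def hh (P : Pres D C F G) (r : ℕ) (t : F) : G := P.nn r t * P.nn r (-1)

theorem θ_nn {r : ℕ} (hr : r < D.nroots) (t : F) : P.θ (P.nn r t) = P.S.ok.nG r t := by
  rw [nn, map_mul, map_mul, P.hθ r hr, P.hθ _ (P.neg_lt hr)]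
  rfl

theorem θ_hh {r : ℕ} (hr : r < D.nroots) (t : F) : P.θ (P.hh r t) = P.S.ok.hG r t := by
  rw [hh, map_mul, P.θ_nn hr, P.θ_nn hr]
  rfl

theorem nn_mul_neg {r : ℕ} (hr : r < D.nroots) (t : F) : P.nn r t * P.nn r (-t) = 1 := by
  have hm := P.neg_lt hr
  rw [nn, nn, inv_neg, neg_neg]
  rw [show P.x r t * P.x (D.neg r) (-t⁻¹) * P.x r t * (P.x r (-t) * P.x (D.neg r) t⁻¹ * P.x r (-t)) =
    P.x r t * P.x (D.neg r) (-t⁻¹) * (P.x r t * P.x r (-t)) * P.x (D.neg r) t⁻¹ * P.x r (-t) by group,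
    P.hx r hr, add_neg_cancel, P.x_zero hr, mul_one, mul_assoc (P.x r t), P.hx _ hm, neg_add_cancel,
    P.x_zero hm, mul_one, P.hx r hr, add_neg_cancel, P.x_zero hr]

theorem nn_inv {r : ℕ} (hr : r < D.nroots) (t : F) : (P.nn r t)⁻¹ = P.nn r (-t) :=
  inv_eq_iff_mul_eq_one.2 (P.nn_mul_neg hr t)

theorem nn_eq_hh {r : ℕ} (hr : r < D.nroots) (t : F) : P.nn r t = P.hh r t * P.nn r 1 := by
  rw [hh, mul_assoc, ← P.nn_inv hr, inv_mul_cancel, mul_one]

/-- `h̄_i(t)` and `n̄_i(t)` keep a side. -/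
theorem nn_side {i s : ℕ} (hi : i < D.rank) (t : F) {g : G} (hg : g ∈ P.gen (P.Side i s)) :
    P.nn (C.sr i) t * g * (P.nn (C.sr i) t)⁻¹ ∈ P.gen (P.Side i s) := by
  have h1 := P.side_conj hi (Or.inl rfl) t (P.side_conj hi (Or.inr rfl) (-t⁻¹) (P.side_conj hi (Or.inl rfl) t hg))
  convert h1 using 1
  rw [nn]; group

end Pres

end St

end Cfsg.Lib.Chev
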