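import Cfsg.Agent.Chev.St.Abs

/-! The elements `n̄_i`, `h̄_i` permute the generators up to scalars; the kernel of the map to the Chevalley group
lies in the subgroup generated by the `h̄_i`. -/

set_option autoImplicit false

open Cfsg.Lie

namespace Cfsg.Lib.Chev

theorem list_prod_cancel {M : Type*} [Group M] {α : Type*} (f g : α → M) (L₁ L₂ : List α) (q : α)
    (h₁ : ∀ x ∈ L₁, f x = g x) (h₂ : ∀ x ∈ L₂, f x = g x)
    (h : ((L₁ ++ q :: L₂).map f).prod = ((L₁ ++ q :: L₂).map g).prod) : f q = g q := by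
  rw [List.map_append, List.map_append, List.map_cons, List.map_cons, List.prod_append, List.prod_append,
    List.prod_cons, List.prod_cons, List.map_congr_left h₁, List.map_congr_left h₂] at h
  exact mul_right_cancel (mul_left_cancel h)

namespace St

theorem kcnt_eq_zero {α : Type} (p : α → Bool) : ∀ L : List α, kcnt p L = 0 → ∀ x ∈ L, ¬ p x = true
  | [], _, x, hx => by simp at hx
  | a :: M, h, x, hx => by
    simp only [kcnt] at h
    cases e : p a with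
    | true => rw [e] at h; exact absurd h (Nat.succ_ne_zero _)
    | false =>
      rw [e] at h
      rcases List.mem_cons.1 hx with rfl | hx
      · simp [e]
      · exact kcnt_eq_zero p M h x hx

theorem kcnt_eq_one {α : Type} (p : α → Bool) : ∀ L : List α, kcnt p L = 1 →
    ∃ L₁ q L₂, L = L₁ ++ q :: L₂ ∧ p q = true ∧ (∀ x ∈ L₁, ¬ p x = true) ∧ ∀ x ∈ L₂, ¬ p x = true
  | [], h => by simp [kcnt] at h
  | a :: M, h => by
    simp only [kcnt] at h
    cases e : p a with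
    | true =>
      rw [e] at h
      exact ⟨[], a, M, rfl, e, by simp, kcnt_eq_zero p M (Nat.succ_injective h)⟩
    | false =>
      rw [e] at h
      obtain ⟨L₁, q, L₂, rfl, hq, h1, h2⟩ := kcnt_eq_one p M h
      refine ⟨a :: L₁, q, L₂, rfl, hq, ?_, h2⟩
      intro x hx
      rcases List.mem_cons.1 hx with rfl | hx
      · simp [e]
      · exact h1 x hx

variable {D : ChevalleyDatum} {C : Cert} {F : Type*} [Field F] {G : Type*} [Group G]

namespace Pres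

variable (P : Pres D C F G)
include P

theorem sr_eq {i : ℕ} (hi : i < D.rank) : C.sr i = D.simple i := P.S.ok.sr_eq hi

theorem neg_neg {r : ℕ} (hr : r < D.nroots) : D.neg (D.neg r) = r := by
  rw [P.neg_eq_rev (P.neg_lt hr), P.neg_eq_rev hr]; omega

theorem neg_w {i r : ℕ} (hi : i < D.rank) (hr : r < D.nroots) : C.w i (D.neg r) = D.neg (C.w i r) :=
  (P.S.ok.neg_w hi hr).symm

theorem side_w {i s : ℕ} (hi : i < D.rank) (hs : s < D.nroots) (h1 : s ≠ C.sr i) (h2 : s ≠ D.neg (C.sr i)) :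
    C.w i s ∈ P.Side i s := by
  have hp := P.sr_lt hi
  have hw := P.S.ok.w_lt hi hs
  have hh := P.half_add
  have hwp : C.w i (C.sr i) = D.neg (C.sr i) := by
    rw [(P.S.ok.refl_simple hi).1, P.S.ok.neg_eq hp]
  refine ⟨hw, ?_, fun e => h2 ?_, fun e => h1 ?_⟩
  · by_cases hsp : D.nroots / 2 ≤ s
    · simp [hsp, P.S.pos_w hi hsp hs h1]
    · have hns : D.nroots / 2 ≤ D.neg s := by rw [P.neg_eq_rev hs]; omega
      have := P.S.pos_w hi hns (P.neg_lt hs) (fun e => h2 (by rw [← P.neg_neg hs, e]))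
      rw [P.neg_w hi hs, P.neg_eq_rev hw] at this
      simp [hsp]
      omega
  · rw [← P.S.ok.w_w hi hs, e, hwp]
  · have := congrArg (C.w i) e
    rw [P.S.ok.w_w hi hs, P.neg_w hi hp, hwp, P.neg_neg hp] at this
    exact this

theorem self_side {i s : ℕ} (hs : s < D.nroots) (h1 : s ≠ C.sr i) (h2 : s ≠ D.neg (C.sr i)) :
    s ∈ P.Side i s := ⟨hs, Iff.rfl, h1, h2⟩

theorem nconj_off {i s : ℕ} (hi : i < D.rank) (hs : s < D.nroots) (h1 : s ≠ C.sr i) (h2 : s ≠ D.neg (C.sr i))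
    (u : F) : P.nn (C.sr i) 1 * P.x s u * (P.nn (C.sr i) 1)⁻¹ = P.x (C.w i s) ((C.eta i s : F) * u) := by
  refine P.inj_side (i := i) (s := s) (P.nn_side hi 1 (P.mem_gen (P.self_side hs h1 h2) u))
    (P.mem_gen (P.side_w hi hs h1 h2) _) ?_
  rw [map_mul, map_mul, map_inv, P.θ_nn (P.sr_lt hi), P.hθ s hs, P.hθ _ (P.S.ok.w_lt hi hs), P.sr_eq hi,
    P.S.ok.conj_nG_xG hi hs]

theorem nconj_pm {i r : ℕ} (hi : i < D.rank) (hr : r = C.sr i ∨ r = D.neg (C.sr i)) (v : F) :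
    P.nn (C.sr i) 1 * P.x r v * (P.nn (C.sr i) 1)⁻¹ = P.x (C.w i r) ((C.eta i r : F) * v) := by
  classical
  have hp := P.sr_lt hi
  have hm : Nat.sub (Nat.sub D.nroots 1) (C.sr i) = D.neg (C.sr i) := (P.neg_eq_rev hp).symm
  obtain ⟨W, h⟩ := (P.parts.2.2.2 i hi).2.1
  simp only [okWit, Bool.and_eq_true, hm] at h
  obtain ⟨a, b, hw⟩ : ∃ a b, witOK D (C.sr i) (D.neg (C.sr i)) r (a, b) = true := by
    rcases hr with rfl | rfl
    exacts [⟨_, _, h.1⟩, ⟨_, _, h.2⟩]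
  simp only [witOK, Bool.and_eq_true, kall_iff, Bool.not_eq_true', blt_true] at hw
  obtain ⟨⟨⟨⟨⟨⟨⟨⟨⟨hal, hbl⟩, e1⟩, e2⟩, e3⟩, e4⟩, e5⟩, e6⟩, hterms⟩, hcnt⟩ := hw
  have e1' := Nat.ne_of_beq_eq_false e1
  have e2' := Nat.ne_of_beq_eq_false e2
  have e3' := Nat.ne_of_beq_eq_false e3
  have e4' := Nat.ne_of_beq_eq_false e4
  have e5' := Nat.ne_of_beq_eq_false e5
  have e6' : b ≠ D.neg a := by rw [P.neg_eq_rev hal]; exact Nat.ne_of_beq_eq_false e6
  obtain ⟨L₁, q, L₂, hL, hq, hL1, hL2⟩ := kcnt_eq_one _ _ (Nat.eq_of_beq_eq_true hcnt)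
  have hqr : q.1 = r := Nat.eq_of_beq_eq_true hq
  have hqt := hterms q (by rw [hL]; simp)
  rw [hq] at hqt
  simp only [Bool.and_eq_true, Bool.or_eq_true] at hqt
  obtain ⟨hc, hij⟩ := hqt
  have hCsq : (q.2.1 : F) * (q.2.1 : F) = 1 := by
    rcases Int.natAbs_eq q.2.1 with e | e <;> rw [Nat.eq_of_beq_eq_true hc] at e <;> simp [e]
  obtain ⟨t, u, htu⟩ : ∃ t u : F, (q.2.1 : F) * (-t) ^ q.2.2.1 * u ^ q.2.2.2 = v := by
    rcases hij with e | e
    · refine ⟨-((q.2.1 : F) * v), 1, ?_⟩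
      rw [Nat.eq_of_beq_eq_true e, pow_one, one_pow, mul_one, _root_.neg_neg, ← mul_assoc, hCsq, one_mul]
    · refine ⟨-1, (q.2.1 : F) * v, ?_⟩
      rw [Nat.eq_of_beq_eq_true e, pow_one, _root_.neg_neg, one_pow, mul_one, ← mul_assoc, hCsq, one_mul]
  set g := P.nn (C.sr i) 1 with hg
  have conjg : ∀ s < D.nroots, s ≠ C.sr i → s ≠ D.neg (C.sr i) → ∀ z : F,
      MulAut.conj g (P.x s z) = P.x (C.w i s) ((C.eta i s : F) * z) := fun s hs k1 k2 z => by
    rw [MulAut.conj_apply]; exact P.nconj_off hi hs k1 k2 z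
  have hw1 : C.w i b ≠ C.w i a := fun e => e5' (P.S.ok.w_inj hi hbl hal e)
  have hw2 : C.w i b ≠ D.neg (C.w i a) := fun e =>
    e6' (P.S.ok.w_inj hi hbl (P.neg_lt hal) (by rw [e, P.neg_w hi hal]))
  have key := congrArg (MulAut.conj g) (P.hc a hal b hbl e5' e6' t u)
  rw [map_mul, map_mul, map_mul, map_inv, map_inv, conjg a hal e1' e2', conjg b hbl e3' e4',
    P.hc _ (P.S.ok.w_lt hi hal) _ (P.S.ok.w_lt hi hbl) hw1 hw2, map_list_prod, List.map_map] at key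
  simp only [ChevalleyDatum.commWord, P.S.ok.commTerms_w P.S.chain hi hal hbl, List.map_map] at key
  have key' : ((D.commTerms a b).map fun c => P.x (C.w i c.1) ((C.eta i c.1 : F) *
      ((c.2.1 : F) * (-t) ^ c.2.2.1 * u ^ c.2.2.2))).prod =
      ((D.commTerms a b).map fun c => MulAut.conj g (P.x c.1 ((c.2.1 : F) * (-t) ^ c.2.2.1 * u ^ c.2.2.2))).prod := by
    refine Eq.trans (congrArg List.prod (List.map_congr_left fun c _ => ?_)) key
    simp only [Function.comp_apply, termW]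
    congr 1
    push_cast
    have s1 := Ok.eta_sq (F := F) C i a
    have s2 := Ok.eta_sq (F := F) C i b
    rw [show -((C.eta i a : F) * t) = (C.eta i a : F) * (-t) by ring, mul_pow, mul_pow]
    have p1 : (C.eta i a : F) ^ c.2.2.1 * (C.eta i a : F) ^ c.2.2.1 = 1 := by rw [← mul_pow, s1, one_pow]
    have p2 : (C.eta i b : F) ^ c.2.2.2 * (C.eta i b : F) ^ c.2.2.2 = 1 := by rw [← mul_pow, s2, one_pow]
    linear_combination (-((C.eta i c.1 : F) * (c.2.1 : F) * (-t) ^ c.2.2.1 * u ^ c.2.2.2)) *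
      ((C.eta i b : F) ^ c.2.2.2 * (C.eta i b : F) ^ c.2.2.2) * p1 -
      ((C.eta i c.1 : F) * (c.2.1 : F) * (-t) ^ c.2.2.1 * u ^ c.2.2.2) * p2
  rw [hL] at key'
  have hoff : ∀ c ∈ D.commTerms a b, ¬ Nat.beq c.1 r = true →
      P.x (C.w i c.1) ((C.eta i c.1 : F) * ((c.2.1 : F) * (-t) ^ c.2.2.1 * u ^ c.2.2.2)) =
      MulAut.conj g (P.x c.1 ((c.2.1 : F) * (-t) ^ c.2.2.1 * u ^ c.2.2.2)) := by
    intro c hc hne
    have h3 := hterms c hc
    rw [Bool.eq_false_iff.2 hne] at h3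
    simp only [Bool.and_eq_true, Bool.not_eq_true'] at h3
    rw [conjg c.1 (Ok.commTerms_lt P.S.chain hal hbl hc) (Nat.ne_of_beq_eq_false h3.1)
      (Nat.ne_of_beq_eq_false h3.2)]
  have := list_prod_cancel _ _ L₁ L₂ q (fun c hc => hoff c (by rw [hL]; simp [hc]) (hL1 c hc))
    (fun c hc => hoff c (by rw [hL]; simp [hc]) (hL2 c hc)) key'
  rw [htu, hqr, MulAut.conj_apply] at this
  exact this.symm

theorem nconj {i s : ℕ} (hi : i < D.rank) (hs : s < D.nroots) (u : F) :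
    P.nn (C.sr i) 1 * P.x s u * (P.nn (C.sr i) 1)⁻¹ = P.x (C.w i s) ((C.eta i s : F) * u) := by
  by_cases h : s = C.sr i ∨ s = D.neg (C.sr i)
  · exact P.nconj_pm hi h u
  · push Not at h
    exact P.nconj_off hi hs h.1 h.2 u

/-- An element permutes the generators up to scalars, compatibly with negation. -/
def Mon (P : Pres D C F G) (g : G) (w : Equiv.Perm (Fin D.nroots)) : Prop :=
  ∃ c : Fin D.nroots → F, (∀ (r : Fin D.nroots) (t : F), g * P.x r.val t * g⁻¹ = P.x (w r).val (c r * t)) ∧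
    ∀ (r m : Fin D.nroots), m.val = D.neg r.val → (w m).val = D.neg (w r).val ∧ c r * c m = 1

theorem mon_one : P.Mon 1 1 :=
  ⟨fun _ => 1, fun r t => by simp, fun r m h => ⟨h, one_mul _⟩⟩

theorem mon_mul {g g' : G} {w w' : Equiv.Perm (Fin D.nroots)} (h : P.Mon g w) (h' : P.Mon g' w') :
    P.Mon (g * g') (w * w') := by
  obtain ⟨c, hc, hn⟩ := h
  obtain ⟨c', hc', hn'⟩ := h'
  refine ⟨fun r => c (w' r) * c' r, fun r t => ?_, fun r m hm => ?_⟩
  · rw [mul_inv_rev, show g * g' * P.x r.val t * (g'⁻¹ * g⁻¹) = g * (g' * P.x r.val t * g'⁻¹) * g⁻¹ by group,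
      hc', hc, mul_assoc]
    rfl
  · obtain ⟨a1, a2⟩ := hn' r m hm
    obtain ⟨b1, b2⟩ := hn (w' r) (w' m) a1
    exact ⟨b1, by linear_combination (c' r * c' m) * b2 + a2⟩

theorem mon_inv {g : G} {w : Equiv.Perm (Fin D.nroots)} (h : P.Mon g w) : P.Mon g⁻¹ w⁻¹ := by
  obtain ⟨c, hc, hn⟩ := h
  have hne : ∀ r, c r ≠ 0 := fun r e => by
    have h2 := (hn r ⟨D.neg r.val, P.neg_lt r.isLt⟩ rfl).2
    rw [e, zero_mul] at h2
    exact zero_ne_one h2
  refine ⟨fun r => (c (w⁻¹ r))⁻¹, fun r t => ?_, fun r m hm => ?_⟩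
  · rw [inv_inv]
    have e := hc (w⁻¹ r) ((c (w⁻¹ r))⁻¹ * t)
    rw [← mul_assoc, mul_inv_cancel₀ (hne _), one_mul, show w (w⁻¹ r) = r from w.apply_symm_apply r] at e
    rw [← e]
    group
  · obtain ⟨k, hk⟩ : ∃ k : Fin D.nroots, k.val = D.neg (w⁻¹ r).val := ⟨⟨_, P.neg_lt (w⁻¹ r).isLt⟩, rfl⟩
    obtain ⟨a1, a2⟩ := hn (w⁻¹ r) k hk
    rw [show w (w⁻¹ r) = r from w.apply_symm_apply r] at a1
    have hwm : w⁻¹ m = k := by
      rw [show m = w k from Fin.ext (by rw [a1, hm])]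
      exact w.symm_apply_apply k
    refine ⟨by rw [hwm]; exact hk, ?_⟩
    simp only [hwm]
    rw [← mul_inv, a2, inv_one]

theorem mon_nn (i : Fin D.rank) : P.Mon (P.nn (C.sr i.val) 1) (P.S.wp i) := by
  refine ⟨fun r => (C.eta i.val r.val : F), fun r t => P.nconj i.isLt r.isLt t, fun r m hm => ?_⟩
  refine ⟨?_, ?_⟩
  · rw [Struct.wp_val, Struct.wp_val, hm, P.neg_w i.isLt r.isLt]
  · show (C.eta i.val r.val : F) * (C.eta i.val m.val : F) = 1
    rw [hm, ← P.S.ok.neg_eq r.isLt, (P.S.ok.refl_spec i.isLt r.isLt).2.2.2.2.2.2.1]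
    exact Ok.eta_sq C i.val r.val

theorem hconj {i s : ℕ} (hi : i < D.rank) (hs : s < D.nroots) {t : F} (ht : t ≠ 0) (u : F) :
    P.hh (C.sr i) t * P.x s u * (P.hh (C.sr i) t)⁻¹ = P.x s (t ^ D.cartan i s * u) := by
  have hside : ∀ {k z : ℕ} {a b : F} {g : G}, k < D.rank → g ∈ P.gen (P.Side k z) →
      (P.nn (C.sr k) a * P.nn (C.sr k) b) * g * (P.nn (C.sr k) a * P.nn (C.sr k) b)⁻¹ ∈ P.gen (P.Side k z) := by
    intro k z a b g hk hg
    have := P.nn_side hk a (P.nn_side hk b hg)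
    convert this using 1
    group
  have hθeq : P.θ (P.hh (C.sr i) t * P.x s u * (P.hh (C.sr i) t)⁻¹) = P.θ (P.x s (t ^ D.cartan i s * u)) := by
    rw [map_mul, map_mul, map_inv, P.θ_hh (P.sr_lt hi), P.hθ s hs, P.hθ s hs, P.sr_eq hi,
      P.S.ok.hG_mul_xG_simple hi hs ht, mul_inv_cancel_right]
  by_cases h : s = C.sr i ∨ s = D.neg (C.sr i)
  swap
  · push Not at h
    exact P.inj_side (hside hi (P.mem_gen (P.self_side hs h.1 h.2) u))
      (P.mem_gen (P.self_side hs h.1 h.2) _) hθeq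
  have hp := P.sr_lt hi
  obtain ⟨j, hj, hj1, hj2⟩ : ∃ j < D.rank, C.w j (C.sr i) ≠ C.sr i ∧ C.w j (C.sr i) ≠ D.neg (C.sr i) := by
    have h0 := (P.parts.2.2.2 i hi).2.2
    obtain ⟨j, hj, hc⟩ := (kex_iff _ _).1 h0
    rw [krange_eq, List.mem_range'_1] at hj
    simp only [Bool.and_eq_true, Bool.not_eq_true'] at hc
    refine ⟨j, by omega, Nat.ne_of_beq_eq_false hc.1, ?_⟩
    rw [P.neg_eq_rev hp]
    exact Nat.ne_of_beq_eq_false hc.2
  have hji : j ≠ i := by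
    rintro rfl
    exact hj2 (by rw [(P.S.ok.refl_simple hi).1, P.S.ok.neg_eq hp])
  have hw1 : C.w j s ≠ s ∧ C.w j s ≠ D.neg s := by
    rcases h with rfl | rfl
    · exact ⟨hj1, hj2⟩
    · rw [P.neg_w hj hp, P.neg_neg hp]
      exact ⟨fun e => hj1 (by rw [← P.neg_neg (P.S.ok.w_lt hj hp), e, P.neg_neg hp]),
        fun e => hj2 (by rw [← P.neg_neg (P.S.ok.w_lt hj hp), e])⟩
  have hs' := P.S.ok.w_lt hj hs
  have hq := P.sr_lt hj
  have hsj : s ≠ C.sr j ∧ s ≠ D.neg (C.sr j) := by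
    constructor
    · intro e
      exact hw1.2 (by rw [e, (P.S.ok.refl_simple hj).1, P.S.ok.neg_eq hq])
    · intro e
      refine hw1.2 ?_
      rw [e, P.neg_w hj hq, (P.S.ok.refl_simple hj).1, P.S.ok.neg_eq hq]
  have hoffi : C.w j s ≠ C.sr i ∧ C.w j s ≠ D.neg (C.sr i) := by
    rcases h with rfl | rfl
    · exact ⟨hw1.1, hw1.2⟩
    · exact ⟨fun e => hw1.2 (by rw [e, P.neg_neg hp]), fun e => hw1.1 e⟩
  have hoffj : C.sr j ≠ C.sr i ∧ D.neg (C.sr j) ≠ D.neg (C.sr i) ∧ C.sr j ≠ D.neg (C.sr i) ∧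
      D.neg (C.sr j) ≠ C.sr i := by
    rcases h with rfl | rfl
    · refine ⟨fun e => hsj.1 e.symm, fun e => hsj.1 ?_, fun e => hsj.2 ?_, fun e => hsj.2 e.symm⟩
      · rw [← P.neg_neg hp, ← e, P.neg_neg hq]
      · rw [e, P.neg_neg hp]
    · refine ⟨fun e => hsj.2 (by rw [e]), fun e => hsj.2 e.symm, fun e => hsj.1 e.symm, fun e => hsj.1 ?_⟩
      rw [← e, P.neg_neg hq]
  obtain ⟨hoj1, hoj4, hoj2, hoj3⟩ := hoffj
  set g := P.hh (C.sr i) t with hgdef
  have hoff : ∀ r < D.nroots, r ≠ C.sr i → r ≠ D.neg (C.sr i) → ∀ z : F,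
      g * P.x r z * g⁻¹ = P.x r (t ^ D.cartan i r * z) := fun r hr k1 k2 z => by
    refine P.inj_side (hside hi (P.mem_gen (P.self_side hr k1 k2) z))
      (P.mem_gen (P.self_side hr k1 k2) _) ?_
    rw [map_mul, map_mul, map_inv, P.θ_hh hp, P.hθ r hr, P.hθ r hr, P.sr_eq hi,
      P.S.ok.hG_mul_xG_simple hi hr ht, mul_inv_cancel_right]
  -- express `x_s(u)` through a root off `±α_i`
  obtain ⟨z, hz⟩ : ∃ z, P.x s u = P.nn (C.sr j) 1 * P.x (C.w j s) z * (P.nn (C.sr j) 1)⁻¹ := by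
    refine ⟨(C.eta j (C.w j s) : F) * u, ?_⟩
    rw [P.nconj hj hs', P.S.ok.w_w hj hs, ← mul_assoc, Ok.eta_sq, one_mul]
  refine P.inj_side (i := j) (s := s) ?_ (P.mem_gen (P.self_side hs hsj.1 hsj.2) _) hθeq
  have e : g * P.x s u * g⁻¹ = (g * P.nn (C.sr j) 1 * g⁻¹) * (g * P.x (C.w j s) z * g⁻¹) *
      (g * P.nn (C.sr j) 1 * g⁻¹)⁻¹ := by rw [hz]; group
  rw [e, hoff _ hs' hoffi.1 hoffi.2]
  have e2 : g * P.nn (C.sr j) 1 * g⁻¹ = (g * P.x (C.sr j) 1 * g⁻¹) *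
      (g * P.x (D.neg (C.sr j)) (-(1:F)⁻¹) * g⁻¹) * (g * P.x (C.sr j) 1 * g⁻¹) := by
    rw [nn]; group
  rw [e2, hoff _ hq hoj1 hoj2, hoff _ (P.neg_lt hq) hoj3 hoj4]
  set A := P.x (C.sr j) (t ^ D.cartan i (C.sr j) * 1) with hA
  set B := P.x (D.neg (C.sr j)) (t ^ D.cartan i (D.neg (C.sr j)) * -(1:F)⁻¹) with hB
  set X := P.x (C.w j s) (t ^ D.cartan i (C.w j s) * z) with hX
  have hside2 : P.gen (P.Side j (C.w j s)) = P.gen (P.Side j s) := by
    have hsw := (P.side_w hj hs hsj.1 hsj.2).2.1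
    congr 1
    ext r
    simp only [Side, Set.mem_setOf_eq, hsw]
  rw [← hside2]
  have hXm : X ∈ P.gen (P.Side j (C.w j s)) := by
    refine P.mem_gen ?_ _
    have := P.side_w hj hs hsj.1 hsj.2
    exact ⟨hs', Iff.rfl, this.2.2.1, this.2.2.2⟩
  have h1 := P.side_conj hj (Or.inl rfl) (t ^ D.cartan i (C.sr j) * 1)
    (P.side_conj hj (Or.inr rfl) (t ^ D.cartan i (D.neg (C.sr j)) * -(1:F)⁻¹)
      (P.side_conj hj (Or.inl rfl) (t ^ D.cartan i (C.sr j) * 1) hXm))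
  convert h1 using 1
  simp only [hA, hB]
  group

theorem mon_hh (i : Fin D.rank) {t : F} (ht : t ≠ 0) : P.Mon (P.hh (C.sr i.val) t) 1 := by
  refine ⟨fun r => t ^ D.cartan i.val r.val, fun r u => P.hconj i.isLt r.isLt ht u, fun r m hm => ?_⟩
  refine ⟨hm, ?_⟩
  have hn := P.neg_lt r.isLt
  show t ^ D.cartan i.val r.val * t ^ D.cartan i.val m.val = 1
  rw [hm, ← P.S.ok.cart_eq i.isLt hn, ← P.S.ok.cart_eq i.isLt r.isLt, ← P.S.ok.neg_eq r.isLt,
    (P.S.ok.refl_spec i.isLt r.isLt).2.2.2.2.1, ← zpow_add₀ ht, add_neg_cancel, zpow_zero]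

/-- The subgroup generated by the `h̄_i(t)`. -/
def Hb (P : Pres D C F G) : Subgroup G :=
  Subgroup.closure {g | ∃ i, i < D.rank ∧ ∃ t : F, t ≠ 0 ∧ g = P.hh (C.sr i) t}

theorem hh_mem {i : ℕ} (hi : i < D.rank) {t : F} (ht : t ≠ 0) : P.hh (C.sr i) t ∈ P.Hb :=
  Subgroup.subset_closure ⟨i, hi, t, ht, rfl⟩

theorem mon_Hb {g : G} (hg : g ∈ P.Hb) : P.Mon g 1 := by
  induction hg using Subgroup.closure_induction with
  | mem g hg =>
    obtain ⟨i, hi, t, ht, rfl⟩ := hg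
    exact P.mon_hh ⟨i, hi⟩ ht
  | one => exact P.mon_one
  | mul x y _ _ ihx ihy => simpa using P.mon_mul ihx ihy
  | inv x _ ih => simpa using P.mon_inv ih

theorem nn_conj {g : G} {w : Equiv.Perm (Fin D.nroots)} (h : P.Mon g w) (r : Fin D.nroots) :
    ∃ c : F, c ≠ 0 ∧ g * P.nn r.val 1 * g⁻¹ = P.nn (w r).val c := by
  obtain ⟨c, hc, hn⟩ := h
  obtain ⟨m, hm⟩ : ∃ m : Fin D.nroots, m.val = D.neg r.val := ⟨⟨_, P.neg_lt r.isLt⟩, rfl⟩
  obtain ⟨h1, h2⟩ := hn r m hm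
  refine ⟨c r, left_ne_zero_of_mul_eq_one h2, ?_⟩
  rw [nn, show g * (P.x r.val 1 * P.x (D.neg r.val) (-(1:F)⁻¹) * P.x r.val 1) * g⁻¹ =
    (g * P.x r.val 1 * g⁻¹) * (g * P.x (D.neg r.val) (-(1:F)⁻¹) * g⁻¹) * (g * P.x r.val 1 * g⁻¹) by group,
    hc, ← hm, hc, h1, nn, mul_one, inv_one, mul_neg, mul_one, eq_inv_of_mul_eq_one_right h2]

theorem nn_mem_conj {i j : ℕ} (hi : i < D.rank) (hj : j < D.rank) {t : F} (ht : t ≠ 0) :
    P.nn (C.sr i) 1 * P.hh (C.sr j) t * (P.nn (C.sr i) 1)⁻¹ ∈ P.Hb := by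
  obtain ⟨c, hc, e⟩ := P.nn_conj (P.mon_hh ⟨j, hj⟩ ht) ⟨C.sr i, P.sr_lt hi⟩
  simp only [Equiv.Perm.one_apply] at e
  have : P.nn (C.sr i) 1 * P.hh (C.sr j) t * (P.nn (C.sr i) 1)⁻¹ =
      P.nn (C.sr i) 1 * (P.hh (C.sr j) t * P.nn (C.sr i) 1 * (P.hh (C.sr j) t)⁻¹)⁻¹ * P.hh (C.sr j) t := by
    group
  rw [this, e, P.nn_eq_hh (P.sr_lt hi) c, mul_inv_rev, ← mul_assoc, mul_inv_cancel, one_mul]
  exact mul_mem (inv_mem (P.hh_mem hi hc)) (P.hh_mem hj ht)

theorem nn_sq_mem {i : ℕ} (hi : i < D.rank) : P.nn (C.sr i) 1 * P.nn (C.sr i) 1 ∈ P.Hb := by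
  have h := inv_mem (P.hh_mem hi (t := (-1 : F)) (by simp))
  convert h using 1
  rw [hh, mul_inv_rev, P.nn_inv (P.sr_lt hi), _root_.neg_neg]

theorem nn_normalises {i : ℕ} (hi : i < D.rank) :
    P.nn (C.sr i) 1 ∈ Subgroup.normalizer (P.Hb : Set G) := by
  have key : ∀ x ∈ P.Hb, P.nn (C.sr i) 1 * x * (P.nn (C.sr i) 1)⁻¹ ∈ P.Hb := by
    intro x hx
    induction hx using Subgroup.closure_induction with
    | mem g hg =>
      obtain ⟨j, hj, t, ht, rfl⟩ := hg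
      exact P.nn_mem_conj hi hj ht
    | one => simp [one_mem]
    | mul x y _ _ ihx ihy =>
      rw [show P.nn (C.sr i) 1 * (x * y) * (P.nn (C.sr i) 1)⁻¹ =
        (P.nn (C.sr i) 1 * x * (P.nn (C.sr i) 1)⁻¹) * (P.nn (C.sr i) 1 * y * (P.nn (C.sr i) 1)⁻¹) by group]
      exact mul_mem ihx ihy
    | inv x _ ihx =>
      rw [show P.nn (C.sr i) 1 * x⁻¹ * (P.nn (C.sr i) 1)⁻¹ = (P.nn (C.sr i) 1 * x * (P.nn (C.sr i) 1)⁻¹)⁻¹ by group]
      exact inv_mem ihx
  rw [Subgroup.mem_normalizer_iff]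
  intro x
  refine ⟨key x, fun hx => ?_⟩
  have h1 := key _ hx
  have hq := P.nn_sq_mem hi
  have := mul_mem (mul_mem (inv_mem hq) h1) hq
  convert this using 1
  group

/-- The product of a word of the `n̄_i`. -/
noncomputable def nLb (P : Pres D C F G) (L : List (Fin D.rank)) : G :=
  (L.map fun i : Fin D.rank => P.nn (C.sr i.val) 1).prod

theorem mon_nLb : ∀ L : List (Fin D.rank), P.Mon (P.nLb L) (P.S.wpL L)
  | [] => by simpa [nLb, Struct.wpL] using P.mon_one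
  | i :: L => by
    simp only [nLb, Struct.wpL, List.map_cons, List.prod_cons]
    exact P.mon_mul (P.mon_nn i) (mon_nLb L)

theorem nLb_normalises (L : List (Fin D.rank)) : P.nLb L ∈ Subgroup.normalizer (P.Hb : Set G) := by
  refine list_prod_mem fun g hg => ?_
  obtain ⟨i, -, rfl⟩ := List.mem_map.1 hg
  exact P.nn_normalises i.isLt

theorem mon_perm_unique {g : G} {w w' : Equiv.Perm (Fin D.nroots)} (h : P.Mon g w) (h' : P.Mon g w') :
    w = w' := by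
  obtain ⟨c, hc, hn⟩ := h
  obtain ⟨c', hc', -⟩ := h'
  refine Equiv.ext fun r => ?_
  by_contra hne
  have e := congrArg P.θ ((hc r 1).symm.trans (hc' r 1))
  rw [P.hθ _ (w r).isLt, P.hθ _ (w' r).isLt] at e
  have h0 := congrArg (P.S.coef (w r)) e
  rw [P.S.coef_xG _ (w r).isLt, P.S.coef_xG _ (w' r).isLt, if_pos rfl,
    if_neg (fun h => hne (Fin.ext h.symm)), mul_one] at h0
  have h2 := (hn r ⟨D.neg r.val, P.neg_lt r.isLt⟩ rfl).2
  rw [h0, zero_mul] at h2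
  exact zero_ne_one h2

/-- Exchange. -/
theorem exchange' (i : Fin D.rank) : ∀ (L : List (Fin D.rank)), (P.S.wpL L (P.S.sp i)).val < D.nroots / 2 →
    ∃ L' : List (Fin D.rank), ∃ h ∈ P.Hb, L'.length + 1 = L.length ∧
      P.nLb L * P.nn (C.sr i.val) 1 = h * P.nLb L'
  | [], hneg => by
    simp only [Struct.wpL, List.map_nil, List.prod_nil, Equiv.Perm.one_apply, Struct.sp] at hneg
    exact absurd hneg (by have := P.S.sr_pos i.isLt; omega)
  | a :: M, hneg => by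
    simp only [Struct.wpL, List.map_cons, List.prod_cons, Equiv.Perm.mul_apply] at hneg
    have hna := P.nn_normalises (i := a.val) a.isLt
    by_cases hv : (P.S.wpL M (P.S.sp i)).val < D.nroots / 2
    · obtain ⟨M', h', hh', hlen, e⟩ := exchange' i M hv
      refine ⟨a :: M', P.nn (C.sr a.val) 1 * h' * (P.nn (C.sr a.val) 1)⁻¹,
        (Subgroup.mem_normalizer_iff.1 hna h').1 hh', by simp [← hlen], ?_⟩
      simp only [nLb, List.map_cons, List.prod_cons] at e ⊢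
      rw [mul_assoc, e]
      group
    · have hva : (P.S.wpL M (P.S.sp i)).val = C.sr a.val := by
        by_contra hne
        have := P.S.pos_w a.isLt (by omega) (P.S.wpL M (P.S.sp i)).isLt hne
        simp only [Struct.wpL] at this
        rw [Struct.wp_val] at hneg
        omega
      obtain ⟨c, hc, e⟩ := P.nn_conj (P.mon_nLb M) (P.S.sp i)
      rw [hva, show (P.S.sp i).val = C.sr i.val from rfl, P.nn_eq_hh (P.sr_lt a.isLt) c,
        mul_inv_eq_iff_eq_mul] at e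
      refine ⟨M, P.nn (C.sr a.val) 1 * P.hh (C.sr a.val) c * (P.nn (C.sr a.val) 1)⁻¹ *
        (P.nn (C.sr a.val) 1 * P.nn (C.sr a.val) 1),
        mul_mem ((Subgroup.mem_normalizer_iff.1 hna _).1 (P.hh_mem a.isLt hc)) (P.nn_sq_mem a.isLt),
        by simp, ?_⟩
      simp only [nLb, List.map_cons, List.prod_cons] at e ⊢
      rw [mul_assoc, e]
      group

theorem nLb_mem : ∀ (m : ℕ) (L : List (Fin D.rank)), L.length = m → P.S.wpL L = 1 → P.nLb L ∈ P.Hb := by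
  intro m
  induction m using Nat.strong_induction_on with
  | _ m ih =>
    intro L hm hL
    rcases eq_or_ne L [] with rfl | hne
    · simp [nLb, one_mem]
    obtain ⟨M, i, rfl⟩ : ∃ M i, L = M ++ [i] :=
      ⟨L.dropLast, L.getLast hne, (List.dropLast_append_getLast hne).symm⟩
    have hwM : P.S.wpL M = P.S.wp i := by
      have h1 : P.S.wpL M * P.S.wp i = 1 := by simpa [Struct.wpL] using hL
      rw [eq_inv_of_mul_eq_one_left h1, inv_eq_of_mul_eq_one_right (P.S.wp_mul_self i)]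
    have hneg : (P.S.wpL M (P.S.sp i)).val < D.nroots / 2 := by
      rw [hwM, Struct.wp_val, show (P.S.sp i).val = C.sr i.val from rfl, (P.S.ok.refl_simple i.isLt).1,
        P.S.ok.neg_eq (P.sr_lt i.isLt)]
      exact P.S.neg_lt_half (P.sr_lt i.isLt) (P.S.sr_pos i.isLt)
    obtain ⟨M', h', hh', hlen, e⟩ := P.exchange' i M hneg
    have hperm : P.S.wpL M' = 1 := by
      have h1 := P.mon_mul (P.mon_Hb hh') (P.mon_nLb M')
      have h2 := P.mon_mul (P.mon_nLb M) (P.mon_nn i)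
      rw [e] at h2
      have := P.mon_perm_unique h1 h2
      rw [one_mul, hwM, P.S.wp_mul_self] at this
      exact this
    have : P.nLb (M ++ [i]) = h' * P.nLb M' := by
      rw [← e]; simp [nLb]
    rw [this]
    refine mul_mem hh' (ih M'.length ?_ M' rfl hperm)
    simp at hm
    omega

end Pres

end St

end Cfsg.Lib.Chev
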