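import Cfsg.Agent.Chev.Graph
import Cfsg.Agent.Chev.Opp
import Cfsg.Agent.Chev.Tw.Data

/-! Certified data used for Steinberg's presentation: the sign-reversing automorphism, closure of the sets of
positive and negative roots under a fundamental root, and roots obtained from commutators with unit coefficient. -/

set_option autoImplicit false

open Cfsg.Lie

namespace Cfsg.Lib.Chev

namespace St

/-- The automorphism reversing all roots. -/
noncomputable def negG (l n : ℕ) : GTab where
  pc := kapp (krange 0 l) (kmap (fun r => Nat.sub (Nat.add l (Nat.sub n 1)) r) (krange 0 n))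
  pci := kapp (krange 0 l) (kmap (fun r => Nat.sub (Nat.add l (Nat.sub n 1)) r) (krange 0 n))
  es := kmap (fun _ => -1) (krange 0 (Nat.add l n))

/-- The root `r` is the reverse of its negative. -/
noncomputable def okRev (D : ChevalleyDatum) : Bool :=
  let n := D.nroots
  kall (fun r => Nat.beq (D.negIdx.getD r 0) (Nat.sub (Nat.sub n 1) r)) (krange 0 n)

/-- Chains between two negative roots precede both. -/
noncomputable def okNN (D : ChevalleyDatum) : Bool :=
  let h := Nat.div D.nroots 2
  kall (fun r => kall (fun e => Nat.ble h e.1 || kall (fun q => Nat.blt q.1 r && Nat.blt q.1 e.1) e.2.toList)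
    (D.chain.getD r #[]).toList) (krange 0 h)

/-- Every chain has at most two steps. -/
noncomputable def okShort (D : ChevalleyDatum) : Bool :=
  kall (fun r => kall (fun e => Nat.blt e.2.toList.length 3) (D.chain.getD r #[]).toList) (krange 0 D.nroots)

/-- `q` is on the side of `s` and is not `±p`. -/
noncomputable def keeps (h p m s q : ℕ) : Bool :=
  (Nat.ble h q == Nat.ble h s) && !Nat.beq q p && !Nat.beq q m

/-- The chains through `±p` keep the other roots of either sign among themselves. -/
noncomputable def okSideRow (D : ChevalleyDatum) (C : Cert) (i : ℕ) : Bool :=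
  let n := D.nroots
  let h := Nat.div n 2
  let p := C.sr i
  let m := Nat.sub (Nat.sub n 1) p
  kall (fun r => kall (fun e =>
    ((!(Nat.beq r p || Nat.beq r m) || (Nat.beq e.1 p || Nat.beq e.1 m)) || kall (fun q => keeps h p m e.1 q.1) e.2.toList) &&
    ((!(Nat.beq e.1 p || Nat.beq e.1 m) || (Nat.beq r p || Nat.beq r m)) || kall (fun q => keeps h p m r q.1) e.2.toList))
    (D.chain.getD r #[]).toList) (krange 0 n)

/-- A fundamental root and its negative keep the other roots of either sign among themselves. -/
noncomputable def okSide (D : ChevalleyDatum) (C : Cert) (i : ℕ) : Bool :=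
  let n := D.nroots
  let h := Nat.div n 2
  let p := C.sr i
  let m := Nat.sub (Nat.sub n 1) p
  kall (fun s => Nat.beq s p || Nat.beq s m ||
    (kall (fun q => (Nat.ble h q.1 == Nat.ble h s) && !Nat.beq q.1 p && !Nat.beq q.1 m) (D.commTerms p s) &&
     kall (fun q => (Nat.ble h q.1 == Nat.ble h s) && !Nat.beq q.1 p && !Nat.beq q.1 m) (D.commTerms m s)))
    (krange 0 n)

/-- Boolean count. -/
noncomputable def kcnt {α : Type} (p : α → Bool) (L : List α) : ℕ :=
  @List.rec α (fun _ => ℕ) 0 (fun a _ ih => Bool.rec ih (Nat.succ ih) (p a)) L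

/-- The pair `(a, b)` yields `r` exactly once, with unit coefficient, and avoids `p` and `m`. -/
noncomputable def witOK (D : ChevalleyDatum) (p m r : ℕ) (ab : ℕ × ℕ) : Bool :=
  let n := D.nroots
  Nat.blt ab.1 n && Nat.blt ab.2 n && !Nat.beq ab.1 p && !Nat.beq ab.1 m && !Nat.beq ab.2 p && !Nat.beq ab.2 m &&
    !Nat.beq ab.2 ab.1 && !Nat.beq ab.2 (Nat.sub (Nat.sub n 1) ab.1) &&
    kall (fun q => Bool.rec (!Nat.beq q.1 p && !Nat.beq q.1 m) (Nat.beq q.2.1.natAbs 1 && (Nat.beq q.2.2.1 1 || Nat.beq q.2.2.2 1))
      (Nat.beq q.1 r))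
      (D.commTerms ab.1 ab.2) &&
    Nat.beq (kcnt (fun q => Nat.beq q.1 r) (D.commTerms ab.1 ab.2)) 1

/-- Every fundamental root and its negative are commutator terms with unit coefficient. -/
noncomputable def okWit (D : ChevalleyDatum) (C : Cert) (W : List ((ℕ × ℕ) × (ℕ × ℕ))) (i : ℕ) : Bool :=
  let p := C.sr i
  let m := Nat.sub (Nat.sub D.nroots 1) p
  witOK D p m p (W.getD i ((0, 0), (0, 0))).1 && witOK D p m m (W.getD i ((0, 0), (0, 0))).2

/-- Every fundamental root is moved to a third root by a fundamental reflection. -/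
noncomputable def okAdj (D : ChevalleyDatum) (C : Cert) (i : ℕ) : Bool :=
  let p := C.sr i
  let m := Nat.sub (Nat.sub D.nroots 1) p
  kex (fun j => !Nat.beq (C.w j p) p && !Nat.beq (C.w j p) m) (krange 0 D.rank)

/-- All checks. -/
noncomputable def okSt (D : ChevalleyDatum) (C : Cert) (W : List ((ℕ × ℕ) × (ℕ × ℕ))) : Bool :=
  (negG D.rank D.nroots).okAut C && okRev D && okNN D &&
    kall (fun i => ((okShort D && okSideRow D C i) || okSide D C i) && okWit D C W i && okAdj D C i)
      (krange 0 D.rank)

/-- A block of rows of the check of an automorphism. -/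
noncomputable def autBlock (G : GTab) (C : Cert) (a k : ℕ) : Bool :=
  kall (fun r => eqTest 2 (G.mapT (C.row r)) (Cert.scaleU (G.eps C.l r) (C.row (G.rho C.l r)))) (krange a k)

/-- The coordinate part of the check of an automorphism. -/
noncomputable def autHead (G : GTab) (C : Cert) : Bool :=
  let N := Nat.add C.l C.n
  kall (fun a => Nat.blt (G.img a) N && Nat.blt (G.pre a) N && Nat.beq (G.pre (G.img a)) a &&
    Nat.beq (G.img (G.pre a)) a && (Nat.blt (G.img a) C.l == Nat.blt a C.l) &&
    Nat.beq (G.sg a).natAbs 1) (krange 0 N)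

theorem okAut_of_blocks (G : GTab) (C : Cert) (k : ℕ) (hk : 0 < k) (h0 : autHead G C = true)
    (h : ∀ j, j * k < C.n → autBlock G C (j * k) k = true) : G.okAut C = true := by
  simp only [GTab.okAut, Bool.and_eq_true, kall_iff, krange_eq, List.mem_range'_1]
  refine ⟨fun a ha => ?_, fun r hr => ?_⟩
  · have := kall_krange h0 a (by omega)
    simpa [Bool.and_eq_true] using this
  · have hle : r / k * k ≤ r := Nat.div_mul_le_self r k
    have hlt : r < r / k * k + k := by
      have := Nat.lt_div_mul_add hk (a := r)
      omega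
    have hb := h (r / k) (by omega)
    rw [autBlock, kall_iff] at hb
    exact hb r (by rw [krange_eq, List.mem_range'_1]; omega)

end St

end Cfsg.Lib.Chev
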